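import Cfsg.Agent.Omega.F4Leaf.EndC.Ex

/-!
# LeafF4, END: `exists_b` in the situation `SixF`

`EndC.exists_b` : there is `b ∈ B = V Σ` moved by `O₂(C_G(r_ij))` such that `b ^ h ∈ {b, b r_ij}` for all
`h ∈ C_G(r_ij)`.
-/

set_option autoImplicit false

namespace Cfsg.Agent.Omega.F4Leaf.EndC

open Subgroup Cfsg Cfsg.Agent.Omega.S5.Def Cfsg.Agent.Omega.NSix.Base Cfsg.Agent.Omega.NSix.Basic
open Cfsg.Agent.Omega.NSix.Free
open Cfsg.Agent.ZN (o2)
open Cfsg.Agent.MinSimple.VModule (o2_le o2_isPGroup le_normalizer_o2 le_o2)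
open Cfsg.Agent.MinSimple.Geo (inf_centralizer_o2_le isTwoLocal_centralizer)

universe u

variable {G : Type u} [Group G] {n : ℕ} {V L : Subgroup G} {ε : (Fin n → ZMod 2) → G}
  {W : Fin n → Fin n → Subgroup G}

theorem w_le_NN (b : Base V L ε W) {i j : Fin n} (hij : i ≠ j) : W i j ≤ NN ε i j := by
  intro w hw
  rw [mem_NN']
  rcases b.act i j hij w hw with h | h
  · rw [rr_conj h]
    rfl
  · rw [rr_conj h, Equiv.swap_apply_left, Equiv.swap_apply_right]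
    exact rr_symm b.ev _ _

/-- `W_ij ≤ O₂(C_G(r_ij))` -/
theorem w_le_o2 [Finite G] (hG : IsCharacteristicTwoType G) (b : SixF V L ε W) (hn : 3 ≤ n) {i j : Fin n}
    (hij : i ≠ j) : W i j ≤ o2 (NN ε i j) := by
  have hbb := b.toBase
  have hloc : IsTwoLocal (NN ε i j) := isTwoLocal_centralizer (rr_sq b.ev i j) (rr_ne_one b.ev hn hij)
  refine le_o2 (w_le_NN hbb hij) ?_ fun g hg => mem_normalizer_of_le fun x hx => b.wn i j hij g hg x hx
  -- `w ^ 2 ∈ O₂(N)`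
  have key : ∀ w ∈ W i j, w * w ∈ o2 (NN ε i j) := by
    intro w hw
    have hwN := w_le_NN hbb hij hw
    refine inf_centralizer_o2_le hG hloc (Subgroup.mem_inf.mpr ⟨mul_mem hwN hwN, ?_⟩)
    rw [mem_centralizer_iff]
    intro x hx
    have h1 : w * (w * x * w⁻¹) * w⁻¹ = x := by
      rcases b.qc i j hij x hx w hw with h2 | h2
      · rw [h2, h2]
      · rw [h2]
        have h3 := mem_NN'.mp hwN
        calc w * (x * rr ε i j) * w⁻¹ = (w * x * w⁻¹) * (w * rr ε i j * w⁻¹) := by group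
          _ = x * (rr ε i j * rr ε i j) := by rw [h2, h3, mul_assoc]
          _ = x := by rw [rr_sq b.ev, mul_one]
    calc x * (w * w) = w * (w * x * w⁻¹) * w⁻¹ * (w * w) := by rw [h1]
      _ = w * w * x := by group
  intro w
  obtain ⟨k, hk⟩ := o2_isPGroup (NN ε i j) ⟨(w : G) * w, key w w.2⟩
  refine ⟨k + 1, Subtype.ext ?_⟩
  have h1 : ((w : G) * w) ^ 2 ^ k = 1 := congrArg Subtype.val hk
  change (w : G) ^ 2 ^ (k + 1) = 1
  rw [pow_succ' 2 k, pow_mul, pow_two]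
  exact h1

/-- the frame -/
theorem fr_of_sixF [Finite G] (hG : IsCharacteristicTwoType G) (b : SixF V L ε W) (hodd : Odd n) (hn : 7 ≤ n)
    (S : Sylow 2 G) (hS : (S : Subgroup G) ≤ L) {o : Fin n}
    (ho : ∀ s ∈ (S : Subgroup G), s * zz ε o = zz ε o * s) : Fr S V L (BB V ε) (SG ε) ε W o where
  ev := b.ev
  odd := hodd
  seven := hn
  le := hS
  fix := ho
  VB := v_le_BB
  SB := sg_le_BB
  dec := fun _ hx => (mem_BB b.toBase (by omega)).mp hx
  comm := fun _ hx _ hy => bb_comm b.toBase (by omega) hx hy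
  sq := fun _ hx => bb_sq b.toBase (by omega) hx
  LB := l_le_GG b.toBase
  NB := fun _ _ hij => nn_le hG b hodd hn S hS ho hij
  sgl := fun g hg s hs => by
    obtain ⟨σ, hσ⟩ := b.ev.perm g hg
    exact sg_conj hσ hs
  wn := b.wn
  wc := b.wc
  wa := b.act
  mov := b.mov
  cen := fun _ _ hij _ hw _ hs => sg_cen b.toBase hs hij hw

/-- **`exists_b`** -/
theorem exists_b [Finite G] (hG : IsCharacteristicTwoType G) (b : SixF V L ε W) (hodd : Odd n) (hn : 7 ≤ n)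
    (S : Sylow 2 G) (hS : (S : Subgroup G) ≤ L) {o : Fin n}
    (ho : ∀ s ∈ (S : Subgroup G), s * zz ε o = zz ε o * s) {i j : Fin n} (hij : i ≠ j) :
    ∃ b ∈ BB V ε, (∃ w ∈ o2 (NN ε i j), w * b ≠ b * w) ∧
      ∀ h ∈ NN ε i j, h * b * h⁻¹ = b ∨ h * b * h⁻¹ = b * rr ε i j := by
  obtain ⟨c, hc, ⟨w, hw, h1⟩, h2⟩ := (fr_of_sixF hG b hodd hn S hS ho).exists_b hij
  refine ⟨c, hc, ⟨w, w_le_o2 hG b (by omega) hij hw, fun h3 => ?_⟩, h2⟩
  rw [h3, mul_inv_cancel_right] at h1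
  exact rr_ne_one b.ev (by omega) hij (mul_left_cancel (h1.symm.trans (mul_one c).symm))

end Cfsg.Agent.Omega.F4Leaf.EndC
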