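import Cfsg.Agent.Omega.F4Leaf.EndC.Sys

/-!
# LeafF4, END: the two cliques over a pair

Continuation of `EndC/Sys.lean`: `Sys.r_sig`, `Cl`, `Sys.near`, `Sys.cl_pair`, `Sys.map_sum`, `Sys.card_cl`.
-/

set_option autoImplicit false

namespace Cfsg.Agent.Omega.F4Leaf.EndC

open Finset

variable {E : Type*} [AddCommGroup E] {n : ℕ}

theorem exists_three (hn : 7 ≤ n) (s : Finset (Fin n)) (hs : s.card ≤ 4) :
    ∃ a b c, a ∉ s ∧ b ∉ s ∧ c ∉ s ∧ a ≠ b ∧ a ≠ c ∧ b ≠ c := by
  classical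
  have h1 : 2 < (univ \ s).card := by
    rw [Finset.card_sdiff_of_subset (Finset.subset_univ _), Finset.card_univ, Fintype.card_fin]
    omega
  obtain ⟨a, ha, b, hb, c, hc, h2, h3, h4⟩ := Finset.two_lt_card.mp h1
  exact ⟨a, b, c, (Finset.mem_sdiff.mp ha).2, (Finset.mem_sdiff.mp hb).2, (Finset.mem_sdiff.mp hc).2, h2, h3, h4⟩

/-- the clique over `r_ij` of the letter `i` -/
def Cl (Δ : Set E) (f : E → E → ZMod 2) (e : (Fin n → ZMod 2) → E) (i j : Fin n) : Set E :=
  {x | (∃ k, k ≠ i ∧ k ≠ j ∧ x = er e i k) ∨ ∃ τ, Sys.IsSig f e τ ∧ ez e i + τ ∈ Δ ∧ x = ez e i + τ}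

namespace Sys

variable {Δ : Set E} {f : E → E → ZMod 2} {e : (Fin n → ZMod 2) → E} (h : Sys Δ f e)
include h

/-! ### `r_ij + σ ∈ Δ ⟹ σ = 0` -/

theorem rr_add (i j k : Fin n) : er e i j + er e i k = er e j k := by
  rw [h.er_eq, h.er_eq, h.er_eq]
  have h1 := h.two (ez e i)
  calc ez e i + ez e j + (ez e i + ez e k) = (ez e i + ez e i) + (ez e j + ez e k) := by abel
    _ = _ := by rw [h1, zero_add]

theorem z_add (i j : Fin n) : ez e i + er e i j = ez e j := by
  rw [h.er_eq, ← add_assoc, h.two, zero_add]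

/-- `r_ij + σ ∈ Δ` for one pair implies it for all. -/
theorem pair_all {σ : E} (hσ : IsSig f e σ) {i j : Fin n} (hij : i ≠ j) (hd : er e i j + σ ∈ Δ) {k l : Fin n}
    (hkl : k ≠ l) : er e k l + σ ∈ Δ := by
  have step : ∀ {i j k : Fin n}, i ≠ j → i ≠ k → er e i j + σ ∈ Δ → er e i k + σ ∈ Δ := by
    intro i j k hij hik hd
    by_cases hjk : j = k
    · rwa [← hjk]
    · have h1 : f (er e i j + σ) (er e j k) = 1 := by
        have h0 := h.f_left (y := Pi.single i 1 + Pi.single j 1) hσ hd hjk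
        change f (er e i j + σ) (er e j k) = _ at h0
        rw [h0]
        simp only [Pi.add_apply, Pi.single_eq_same, Pi.single_eq_of_ne hij.symm, Pi.single_eq_of_ne (Ne.symm hik),
          Pi.single_eq_of_ne (Ne.symm hjk)]
        decide
      have h2 := h.cl _ hd _ (h.r_mem j k hjk) h1
      have h3 : er e i j + σ + er e j k = er e i k + σ := by
        rw [h.er_eq, h.er_eq, h.er_eq]
        have h5 := h.two (ez e j)
        calc ez e i + ez e j + σ + (ez e j + ez e k) = (ez e j + ez e j) + (ez e i + ez e k + σ) := by abel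
          _ = _ := by rw [h5, zero_add]
      rwa [h3] at h2
  have sy : ∀ {i j : Fin n}, er e i j + σ ∈ Δ → er e j i + σ ∈ Δ := by
    intro i j h1
    rwa [er_symm] at h1
  by_cases hil : i = l
  · subst hil
    exact sy (step hij (Ne.symm hkl) hd)
  · exact sy (step (Ne.symm hil) (Ne.symm hkl) (sy (step hij hil hd)))

/-- no 4-sets -/
theorem four {σ : E} (hσ : IsSig f e σ) {i j k l : Fin n} (h1 : i ≠ j) (h2 : i ≠ k) (h3 : i ≠ l) (h4 : j ≠ k)
    (h5 : j ≠ l) (h6 : k ≠ l) (hd : er e i j + er e k l + σ ∈ Δ) : False := by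
  classical
  obtain ⟨a, b, c, ha, hb, hc, n1, n2, n3⟩ := exists_three h.seven {i, j, k, l} Finset.card_le_four
  simp only [Finset.mem_insert, Finset.mem_singleton, not_or] at ha hb hc
  have hd' : e ((Pi.single i 1 + Pi.single j 1) + (Pi.single k 1 + Pi.single l 1)) + σ ∈ Δ := by
    rw [h.e_add]
    exact hd
  refine h.no_three hσ hd' h1 h2 h4 n1 n2 n3 ?_ ?_ ?_ ?_ ?_ ?_
  · simp only [Pi.add_apply, Pi.single_eq_same, Pi.single_eq_of_ne h1, Pi.single_eq_of_ne h2, Pi.single_eq_of_ne h3]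
    decide
  · simp only [Pi.add_apply, Pi.single_eq_same, Pi.single_eq_of_ne h1.symm, Pi.single_eq_of_ne h4,
      Pi.single_eq_of_ne h5]
    decide
  · simp only [Pi.add_apply, Pi.single_eq_same, Pi.single_eq_of_ne h2.symm, Pi.single_eq_of_ne h4.symm,
      Pi.single_eq_of_ne h6]
    decide
  · simp only [Pi.add_apply, Pi.single_eq_of_ne ha.1, Pi.single_eq_of_ne ha.2.1, Pi.single_eq_of_ne ha.2.2.1,
      Pi.single_eq_of_ne ha.2.2.2]
    decide
  · simp only [Pi.add_apply, Pi.single_eq_of_ne hb.1, Pi.single_eq_of_ne hb.2.1, Pi.single_eq_of_ne hb.2.2.1,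
      Pi.single_eq_of_ne hb.2.2.2]
    decide
  · simp only [Pi.add_apply, Pi.single_eq_of_ne hc.1, Pi.single_eq_of_ne hc.2.1, Pi.single_eq_of_ne hc.2.2.1,
      Pi.single_eq_of_ne hc.2.2.2]
    decide

/-- no sets of size `n - 3` -/
theorem co_three {σ : E} (hσ : IsSig f e σ) {i k l : Fin n} (h1 : i ≠ k) (h2 : i ≠ l) (h3 : k ≠ l)
    (hd : ez e i + er e k l + σ ∈ Δ) : False := by
  classical
  obtain ⟨a, b, c, ha, hb, hc, n1, n2, n3⟩ := exists_three h.seven {i, k, l} (Finset.card_le_three.trans (by omega))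
  simp only [Finset.mem_insert, Finset.mem_singleton, not_or] at ha hb hc
  have hd' : e (Pi.single i 1 + (Pi.single k 1 + Pi.single l 1)) + σ ∈ Δ := by
    rw [h.e_add]
    exact hd
  refine h.no_three hσ hd' h1 h2 h3 n1 n2 n3 ?_ ?_ ?_ ?_ ?_ ?_
  · simp only [Pi.add_apply, Pi.single_eq_same, Pi.single_eq_of_ne h1, Pi.single_eq_of_ne h2]
    decide
  · simp only [Pi.add_apply, Pi.single_eq_same, Pi.single_eq_of_ne h1.symm, Pi.single_eq_of_ne h3]
    decide
  · simp only [Pi.add_apply, Pi.single_eq_same, Pi.single_eq_of_ne h2.symm, Pi.single_eq_of_ne h3.symm]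
    decide
  · simp only [Pi.add_apply, Pi.single_eq_of_ne ha.1, Pi.single_eq_of_ne ha.2.1, Pi.single_eq_of_ne ha.2.2]
    decide
  · simp only [Pi.add_apply, Pi.single_eq_of_ne hb.1, Pi.single_eq_of_ne hb.2.1, Pi.single_eq_of_ne hb.2.2]
    decide
  · simp only [Pi.add_apply, Pi.single_eq_of_ne hc.1, Pi.single_eq_of_ne hc.2.1, Pi.single_eq_of_ne hc.2.2]
    decide

/-- **(4)** -/
theorem r_sig {σ : E} (hσ : IsSig f e σ) {i j : Fin n} (hij : i ≠ j) (hd : er e i j + σ ∈ Δ) : σ = 0 := by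
  classical
  refine h.O2 _ (h.r_mem i j hij) σ hd fun c hc => ?_
  by_contra hne
  have hne := zmod_ne_zero hne
  obtain ⟨y, τ, hτ, rfl⟩ := h.dec c
  rcases h.cases_of hτ hc with h1 | ⟨k, h1⟩ | ⟨k, l, hkl, h1⟩
  · -- `c ∈ Σ`
    rw [h1, zero_add] at hc hne
    obtain ⟨a, b, -, ha, hb, -, hab, -, -⟩ := exists_three h.seven {i, j} (Finset.card_le_two.trans (by omega))
    simp only [Finset.mem_insert, Finset.mem_singleton, not_or] at ha hb
    have g1 : f τ (er e i j + σ) = 1 := by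
      rw [h.add _ hc, h.symm _ hc _ (h.r_mem i j hij), hτ i j hij, hne, zero_add]
    have g2 : er e i j + σ + τ ∈ Δ := h.cl _ hd _ hc (by rw [← h.symm _ hc _ hd]; exact g1)
    have g3 := h.pair_all hσ hij hd hab
    have g5 : f (er e i j + σ) σ = 0 := by
      have g6 := h.self _ hd
      rw [h.add _ hd] at g6
      have g7 : f (er e i j + σ) (er e i j) = 0 := by
        rw [h.symm _ hd _ (h.r_mem i j hij), h.add _ (h.r_mem i j hij), h.self _ (h.r_mem i j hij), hσ i j hij,
          add_zero]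
      rwa [g7, zero_add] at g6
    have g8 : f (er e i j + σ) (er e a b) = 0 := by
      rw [h.symm _ hd _ (h.r_mem a b hab), h.add _ (h.r_mem a b hab), hσ a b hab,
        h.f_disj hab ha.1 ha.2 hb.1 hb.2, add_zero]
    have g4 : f (er e i j + σ + τ) (er e a b + σ) = 1 := by
      rw [h.fadd _ hd _ hc (by rw [← h.symm _ hc _ hd]; exact g1), h.add _ hd, h.add _ hc, g8, g5,
        h.symm _ hc _ (h.r_mem a b hab), hτ a b hab, hne]
      decide
    have g9 := h.cl _ g2 _ g3 g4
    have g10 : er e i j + σ + τ + (er e a b + σ) = er e i j + er e a b + τ := by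
      have := h.two σ
      calc er e i j + σ + τ + (er e a b + σ) = er e i j + er e a b + τ + (σ + σ) := by abel
        _ = _ := by rw [this, add_zero]
    rw [g10] at g9
    exact h.four hτ hij (Ne.symm ha.1) (Ne.symm hb.1) (Ne.symm ha.2) (Ne.symm hb.2) hab g9
  · -- `c = z_k + τ`
    rw [h1] at hc hne
    obtain ⟨a, b, -, ha, hb, -, hab, -, -⟩ := exists_three h.seven {k}
      (by rw [Finset.card_singleton]; omega)
    simp only [Finset.mem_singleton] at ha hb
    have g3 := h.pair_all hσ hij hd hab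
    have g4 : f (ez e k + τ) (er e a b + σ) = 1 := by
      rw [h.add _ hc, hne, h.symm _ hc _ (h.r_mem a b hab), h.add _ (h.r_mem a b hab), hτ a b hab,
        h.f_rz_of_ne hab ha hb]
      decide
    have g5 := h.cl _ hc _ g3 g4
    have g6 : ez e k + τ + (er e a b + σ) = ez e k + er e a b + (τ + σ) := by abel
    rw [g6] at g5
    exact h.co_three (h.sig_add hτ hσ) (Ne.symm ha) (Ne.symm hb) hab g5
  · -- `c = r_kl + τ`
    rw [h1] at hc hne
    obtain ⟨a, b, -, ha, hb, -, hab, -, -⟩ := exists_three h.seven {k, l} (Finset.card_le_two.trans (by omega))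
    simp only [Finset.mem_insert, Finset.mem_singleton, not_or] at ha hb
    have g3 := h.pair_all hσ hij hd hab
    have g4 : f (er e k l + τ) (er e a b + σ) = 1 := by
      rw [h.add _ hc, hne, h.symm _ hc _ (h.r_mem a b hab), h.add _ (h.r_mem a b hab), hτ a b hab,
        h.f_disj hab ha.1 ha.2 hb.1 hb.2]
      decide
    have g5 := h.cl _ hc _ g3 g4
    have g6 : er e k l + τ + (er e a b + σ) = er e k l + er e a b + (τ + σ) := by abel
    rw [g6] at g5
    exact h.four (h.sig_add hτ hσ) hkl (Ne.symm ha.1) (Ne.symm hb.1) (Ne.symm ha.2) (Ne.symm hb.2) hab g5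

/-! ### The cliques -/

variable {i j : Fin n} (hij : i ≠ j)
include hij

theorem cl_mem {x : E} (hx : x ∈ Cl Δ f e i j) : x ∈ Δ ∧ f (er e i j) x = 1 := by
  rcases hx with ⟨k, h1, h2, rfl⟩ | ⟨τ, h1, h2, rfl⟩
  · exact ⟨h.r_mem i k h1.symm, h.f_meet hij h1.symm h2.symm⟩
  · refine ⟨h2, ?_⟩
    rw [h.add _ (h.r_mem i j hij), h.f_rz_self hij, h1 i j hij, add_zero]

theorem cl_add_mem {x : E} (hx : x ∈ Cl Δ f e i j) : x + er e i j ∈ Δ := by
  obtain ⟨h1, h2⟩ := h.cl_mem hij hx
  exact h.cl _ h1 _ (h.r_mem i j hij) (by rw [h.symm _ h1 _ (h.r_mem i j hij)]; exact h2)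

/-- **(5)** distinct elements of `Cl i j` -/
theorem cl_pair {x y : E} (hx : x ∈ Cl Δ f e i j) (hy : y ∈ Cl Δ f e i j) (hxy : x ≠ y) : f x y = 1 := by
  rcases hx with ⟨k, h1, h2, rfl⟩ | ⟨τ, h1, h2, rfl⟩ <;> rcases hy with ⟨l, h3, h4, rfl⟩ | ⟨ρ, h3, h4, rfl⟩
  · exact h.f_meet h1.symm h3.symm fun h5 => hxy (by rw [h5])
  · rw [h.add _ (h.r_mem i k h1.symm), h.f_rz_self h1.symm, h3 i k h1.symm, add_zero]
  · rw [h.symm _ h2 _ (h.r_mem i l h3.symm), h.add _ (h.r_mem i l h3.symm), h.f_rz_self h3.symm, h1 i l h3.symm,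
      add_zero]
  · by_contra hne
    have hne := zmod_ne_one hne
    have hρ : f (ez e i + ρ) (er e i j) = 1 := by
      rw [h.symm _ h4 _ (h.r_mem i j hij), h.add _ (h.r_mem i j hij), h.f_rz_self hij, h3 i j hij, add_zero]
    have hτ : f (ez e i + τ) (er e i j) = 1 := by
      rw [h.symm _ h2 _ (h.r_mem i j hij), h.add _ (h.r_mem i j hij), h.f_rz_self hij, h1 i j hij, add_zero]
    have g1 := h.cl _ h4 _ (h.r_mem i j hij) hρ
    have g2 : f (ez e i + τ) (ez e i + ρ + er e i j) = 1 := by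
      rw [h.add _ h2, hne, hτ, zero_add]
    have g3 := h.cl _ h2 _ g1 g2
    have g4 : ez e i + τ + (ez e i + ρ + er e i j) = er e i j + (τ + ρ) := by
      have := h.two (ez e i)
      calc ez e i + τ + (ez e i + ρ + er e i j) = (ez e i + ez e i) + (er e i j + (τ + ρ)) := by abel
        _ = _ := by rw [this, zero_add]
    rw [g4] at g3
    have g5 := h.r_sig (h.sig_add h1 h3) hij g3
    apply hxy
    have g6 := h.two ρ
    have g7 : τ = ρ := by
      calc τ = τ + ρ + ρ := by rw [add_assoc, g6, add_zero]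
        _ = ρ := by rw [g5, zero_add]
    rw [g7]

/-- the neighbours of `r_ij` -/
theorem near {c : E} (hc : c ∈ Δ) (hf : f (er e i j) c = 1) : c ∈ Cl Δ f e i j ∨ c + er e i j ∈ Cl Δ f e i j := by
  have hcn : c + er e i j ∈ Δ :=
    h.cl _ hc _ (h.r_mem i j hij) (by rw [h.symm _ hc _ (h.r_mem i j hij)]; exact hf)
  obtain ⟨y, τ, hτ, rfl⟩ := h.dec c
  rcases h.cases_of hτ hc with h1 | ⟨k, h1⟩ | ⟨k, l, hkl, h1⟩
  · rw [h1, zero_add, hτ i j hij] at hf
    exact absurd hf (by decide)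
  · rw [h1] at hc hf hcn ⊢
    rw [h.add _ (h.r_mem i j hij), hτ i j hij, add_zero, h.f_rz hij] at hf
    by_cases hki : k = i
    · subst hki
      exact Or.inl (Or.inr ⟨τ, hτ, hc, rfl⟩)
    · by_cases hkj : k = j
      · subst hkj
        right; right
        have g1 : ez e k + τ + er e i k = ez e i + τ := by
          rw [er_symm, ← h.z_add k i]
          abel
        rw [g1] at hcn ⊢
        exact ⟨τ, hτ, hcn, rfl⟩
      · rw [Pi.single_eq_of_ne (Ne.symm hki), Pi.single_eq_of_ne (Ne.symm hkj)] at hf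
        exact absurd hf (by decide)
  · rw [h1] at hc
    have h2 := h.r_sig hτ hkl hc
    subst h2
    rw [h1, add_zero] at hf ⊢
    rw [h.f_rr hij] at hf
    by_cases hki : k = i
    · subst hki
      by_cases hlj : l = j
      · subst hlj
        simp only [Pi.add_apply, Pi.single_eq_same, Pi.single_eq_of_ne hij, Pi.single_eq_of_ne hij.symm] at hf
        exact absurd hf (by decide)
      · exact Or.inl (Or.inl ⟨l, Ne.symm hkl, hlj, rfl⟩)
    · by_cases hli : l = i
      · subst hli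
        by_cases hkj : k = j
        · subst hkj
          simp only [Pi.add_apply, Pi.single_eq_same, Pi.single_eq_of_ne hij, Pi.single_eq_of_ne hij.symm] at hf
          exact absurd hf (by decide)
        · exact Or.inl (Or.inl ⟨k, hkl, hkj, er_symm e k l⟩)
      · by_cases hkj : k = j
        · subst hkj
          right; left
          refine ⟨l, hli, Ne.symm hkl, ?_⟩
          rw [er_symm e i k, h.rr_add k l i, er_symm]
        · by_cases hlj : l = j
          · subst hlj
            right; left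
            refine ⟨k, hki, hkl, ?_⟩
            rw [er_symm e k l, er_symm e i l, h.rr_add l k i, er_symm]
          · simp only [Pi.add_apply, Pi.single_eq_of_ne (Ne.symm hki), Pi.single_eq_of_ne (Ne.symm hkj),
              Pi.single_eq_of_ne (Ne.symm hli), Pi.single_eq_of_ne (Ne.symm hlj)] at hf
            exact absurd hf (by decide)

/-- `Cl` and `Cl + r_ij` are disjoint. -/
theorem cl_disj {x : E} (hx : x ∈ Cl Δ f e i j) (hx' : x + er e i j ∈ Cl Δ f e i j) : False := by
  classical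
  -- a third element of `Cl`
  obtain ⟨a, b, c, ha, hb, hc, hab, hac, hbc⟩ := exists_three h.seven {i, j} (Finset.card_le_two.trans (by omega))
  simp only [Finset.mem_insert, Finset.mem_singleton, not_or] at ha hb hc
  have inj : ∀ {k l : Fin n}, k ≠ i → l ≠ i → k ≠ l → er e i k ≠ er e i l := by
    intro k l hk hl hkl h1
    have h2 := h.f_meet (Ne.symm hk) (Ne.symm hl) hkl
    rw [h1, h.self _ (h.r_mem i l (Ne.symm hl))] at h2
    exact absurd h2 (by decide)
  obtain ⟨w, hw, hwx, hwy⟩ : ∃ w ∈ Cl Δ f e i j, w ≠ x ∧ w ≠ x + er e i j := by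
    have ma : er e i a ∈ Cl Δ f e i j := Or.inl ⟨a, ha.1, ha.2, rfl⟩
    have mb : er e i b ∈ Cl Δ f e i j := Or.inl ⟨b, hb.1, hb.2, rfl⟩
    have mc : er e i c ∈ Cl Δ f e i j := Or.inl ⟨c, hc.1, hc.2, rfl⟩
    by_cases h1 : er e i a ≠ x ∧ er e i a ≠ x + er e i j
    · exact ⟨_, ma, h1⟩
    · by_cases h2 : er e i b ≠ x ∧ er e i b ≠ x + er e i j
      · exact ⟨_, mb, h2⟩
      · refine ⟨_, mc, ?_, ?_⟩
        · intro h3
          have h1' : er e i a = x + er e i j := by
            by_contra h4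
            exact h1 ⟨fun h5 => inj ha.1 hc.1 hac (h5.trans h3.symm), h4⟩
          have h2' : er e i b = x + er e i j := by
            by_contra h4
            exact h2 ⟨fun h5 => inj hb.1 hc.1 hbc (h5.trans h3.symm), h4⟩
          exact inj ha.1 hb.1 hab (h1'.trans h2'.symm)
        · intro h3
          have h1' : er e i a = x := by
            by_contra h4
            exact h1 ⟨h4, fun h5 => inj ha.1 hc.1 hac (h5.trans h3.symm)⟩
          have h2' : er e i b = x := by
            by_contra h4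
            exact h2 ⟨h4, fun h5 => inj hb.1 hc.1 hbc (h5.trans h3.symm)⟩
          exact inj ha.1 hb.1 hab (h1'.trans h2'.symm)
  have g1 := h.cl_pair hij hw hx hwx
  have g2 := h.cl_pair hij hw hx' hwy
  obtain ⟨g3, g4⟩ := h.cl_mem hij hw
  rw [h.add _ g3, g1, h.symm _ g3 _ (h.r_mem i j hij), g4] at g2
  exact absurd g2 (by decide)

/-- An automorphism of `(Δ, f)` fixing `r_ij` maps `Cl` to `Cl` or to `Cl + r_ij`. -/
theorem map_cl (φ : E →+ E) (hφ : Function.Injective φ) (hn : φ (er e i j) = er e i j) (hΔ : ∀ c ∈ Δ, φ c ∈ Δ)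
    (hf : ∀ c ∈ Δ, ∀ d ∈ Δ, f (φ c) (φ d) = f c d) :
    (∀ x ∈ Cl Δ f e i j, φ x ∈ Cl Δ f e i j) ∨ ∀ x ∈ Cl Δ f e i j, φ x + er e i j ∈ Cl Δ f e i j := by
  have hr := h.r_mem i j hij
  have key : ∀ x ∈ Cl Δ f e i j, φ x ∈ Cl Δ f e i j ∨ φ x + er e i j ∈ Cl Δ f e i j := by
    intro x hx
    obtain ⟨h1, h2⟩ := h.cl_mem hij hx
    refine h.near hij (hΔ x h1) ?_
    rw [← hn, hf _ hr _ h1, h2]
  by_contra hcon
  rw [not_or] at hcon
  obtain ⟨hc1, hc2⟩ := hcon
  push Not at hc1 hc2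
  obtain ⟨x, hx, hx1⟩ := hc1
  obtain ⟨y, hy, hy1⟩ := hc2
  have hx2 := (key x hx).resolve_left hx1
  have hy2 := (key y hy).resolve_right hy1
  have hxy : x ≠ y := by
    rintro rfl
    exact hx1 hy2
  obtain ⟨g1, g2⟩ := h.cl_mem hij hx
  obtain ⟨g3, g4⟩ := h.cl_mem hij hy
  have hne : φ y ≠ φ x + er e i j := by
    intro h1
    rw [← hn, ← map_add] at h1
    have h2 := hφ h1
    rw [h2] at hy
    exact h.cl_disj hij hx hy
  have h5 := h.cl_pair hij hy2 hx2 hne
  rw [h.add _ (hΔ y g3), hf _ g3 _ g1, h.cl_pair hij hy hx hxy.symm, h.symm _ (hΔ y g3) _ hr] at h5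
  have h6 : f (er e i j) (φ y) = 1 := by
    rw [← hn, hf _ hr _ g3, g4]
  rw [h6] at h5
  exact absurd h5 (by decide)

/-- the sum of `Cl i j` -/
noncomputable def csum [Finite E] (Δ : Set E) (f : E → E → ZMod 2) (e : (Fin n → ZMod 2) → E) (i j : Fin n) : E :=
  ∑ x ∈ (Set.toFinite (Cl Δ f e i j)).toFinset, x

theorem map_csum [Finite E] (φ : E →+ E) (hφ : Function.Injective φ) (hn : φ (er e i j) = er e i j)
    (hΔ : ∀ c ∈ Δ, φ c ∈ Δ) (hf : ∀ c ∈ Δ, ∀ d ∈ Δ, f (φ c) (φ d) = f c d) :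
    φ (csum Δ f e i j) = csum Δ f e i j ∨ φ (csum Δ f e i j) = csum Δ f e i j + er e i j := by
  classical
  set s := (Set.toFinite (Cl Δ f e i j)).toFinset with hs
  have ms : ∀ x, x ∈ s ↔ x ∈ Cl Δ f e i j := fun x => Set.Finite.mem_toFinset _
  have e0 : csum Δ f e i j = ∑ x ∈ s, x := rfl
  have e1 : φ (csum Δ f e i j) = ∑ x ∈ s, φ x := by rw [e0, map_sum]
  rcases h.map_cl hij φ hφ hn hΔ hf with h1 | h1
  · left
    rw [e1, e0]
    have h2 : s.image φ = s := by
      apply Finset.eq_of_subset_of_card_le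
      · intro x hx
        obtain ⟨y, hy, rfl⟩ := Finset.mem_image.mp hx
        exact (ms _).mpr (h1 y ((ms _).mp hy))
      · rw [Finset.card_image_of_injective _ hφ]
    conv_rhs => rw [← h2]
    rw [Finset.sum_image fun x _ y _ hxy => hφ hxy]
  · have h2 : s.image (fun x => φ x + er e i j) = s := by
      apply Finset.eq_of_subset_of_card_le
      · intro x hx
        obtain ⟨y, hy, rfl⟩ := Finset.mem_image.mp hx
        exact (ms _).mpr (h1 y ((ms _).mp hy))
      · rw [Finset.card_image_of_injective _ fun x y hxy => hφ (add_right_cancel hxy)]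
    have h3 : ∑ x ∈ s, x = ∑ x ∈ s, (φ x + er e i j) := by
      conv_lhs => rw [← h2]
      rw [Finset.sum_image fun x _ y _ hxy => hφ (add_right_cancel hxy)]
    rw [Finset.sum_add_distrib, Finset.sum_const, ← e1] at h3
    have h4 : (s.card • er e i j = 0) ∨ s.card • er e i j = er e i j := by
      rcases Nat.even_or_odd' s.card with ⟨k, hk | hk⟩
      · left
        rw [hk, mul_comm, mul_smul, two_nsmul, h.two, smul_zero]
      · right
        rw [hk, add_smul, one_smul, mul_comm, mul_smul, two_nsmul, h.two, smul_zero, zero_add]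
    rw [← e0] at h3
    rcases h4 with h4 | h4 <;> rw [h4] at h3
    · left
      rw [add_zero] at h3
      exact h3.symm
    · right
      calc φ (csum Δ f e i j) = φ (csum Δ f e i j) + (er e i j + er e i j) := by rw [h.two, add_zero]
        _ = φ (csum Δ f e i j) + er e i j + er e i j := by rw [add_assoc]
        _ = _ := by rw [← h3]

/-- `f r_ij (∑ Cl) = |Cl|` -/
theorem f_csum [Finite E] : f (er e i j) (csum Δ f e i j) = ((Cl Δ f e i j).ncard : ZMod 2) := by
  classical
  set s := (Set.toFinite (Cl Δ f e i j)).toFinset with hs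
  have ms : ∀ x, x ∈ s ↔ x ∈ Cl Δ f e i j := fun x => Set.Finite.mem_toFinset _
  have e2 : ∀ t : Finset E, f (er e i j) (∑ x ∈ t, x) = ∑ x ∈ t, f (er e i j) x := by
    intro t
    induction t using Finset.induction_on with
    | empty => rw [Finset.sum_empty, Finset.sum_empty, h.f_zero (h.r_mem i j hij)]
    | insert a t ha ih => rw [Finset.sum_insert ha, Finset.sum_insert ha, h.add _ (h.r_mem i j hij), ih]
  have e3 : (Cl Δ f e i j).ncard = s.card := Set.ncard_eq_toFinset_card _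
  change f (er e i j) (∑ x ∈ s, x) = _
  rw [e2, Finset.sum_congr rfl fun x hx => (h.cl_mem hij ((ms x).mp hx)).2, e3]
  simp

/-- the outer letters -/
def TS (Δ : Set E) (f : E → E → ZMod 2) (e : (Fin n → ZMod 2) → E) (i : Fin n) : Set E :=
  {τ | IsSig f e τ ∧ ez e i + τ ∈ Δ}

/-- `|Cl| = n - 2 + |T|` -/
theorem ncard_cl [Finite E] : (Cl Δ f e i j).ncard = (n - 2) + (TS Δ f e i).ncard := by
  classical
  set s1 : Finset (Fin n) := univ.filter fun k => k ≠ i ∧ k ≠ j with hs1
  set s2 := (Set.toFinite (TS Δ f e i)).toFinset with hs2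
  have m2 : ∀ x, x ∈ s2 ↔ x ∈ TS Δ f e i := fun x => Set.Finite.mem_toFinset _
  have hset : Cl Δ f e i j = ((s1.image (er e i) ∪ s2.image fun τ => ez e i + τ : Finset E) : Set E) := by
    ext x
    rw [Finset.mem_coe, Finset.mem_union, Finset.mem_image, Finset.mem_image]
    constructor
    · rintro (⟨k, h1, h2, rfl⟩ | ⟨τ, h1, h2, rfl⟩)
      · exact Or.inl ⟨k, by simp [hs1, h1, h2], rfl⟩
      · exact Or.inr ⟨τ, (m2 τ).mpr ⟨h1, h2⟩, rfl⟩
    · rintro (⟨k, h1, rfl⟩ | ⟨τ, h1, rfl⟩)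
      · have h2 : k ≠ i ∧ k ≠ j := by simpa [hs1] using h1
        exact Or.inl ⟨k, h2.1, h2.2, rfl⟩
      · have h2 := (m2 τ).mp h1
        exact Or.inr ⟨τ, h2.1, h2.2, rfl⟩
  have e3 : (TS Δ f e i).ncard = s2.card := Set.ncard_eq_toFinset_card _
  have hd : Disjoint (s1.image (er e i)) (s2.image fun τ => ez e i + τ) := by
    rw [Finset.disjoint_left]
    intro x hx hx'
    obtain ⟨k, hk, rfl⟩ := Finset.mem_image.mp hx
    obtain ⟨τ, hτ, h1⟩ := Finset.mem_image.mp hx'
    have hk' : k ≠ i ∧ k ≠ j := by simpa [hs1] using hk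
    have hτ' := (m2 τ).mp hτ
    -- `z_k ∈ Σ`
    have h2 : τ = ez e k := by
      rw [h.er_eq] at h1
      exact add_left_cancel h1
    have h3 := hτ'.1 k i hk'.1
    rw [h2, h.f_rz_self hk'.1] at h3
    exact absurd h3 (by decide)
  have hi1 : Set.InjOn (er e i) (s1 : Set (Fin n)) := by
    intro k hk l hl hkl
    have hk' : k ≠ i ∧ k ≠ j := by simpa [hs1] using hk
    have hl' : l ≠ i ∧ l ≠ j := by simpa [hs1] using hl
    by_contra hne
    have h2 := h.f_meet (Ne.symm hk'.1) (Ne.symm hl'.1) hne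
    rw [hkl, h.self _ (h.r_mem i l (Ne.symm hl'.1))] at h2
    exact absurd h2 (by decide)
  rw [hset, Set.ncard_coe_finset, Finset.card_union_of_disjoint hd, Finset.card_image_of_injOn hi1,
    Finset.card_image_of_injective _ (add_right_injective _), e3]
  congr 1
  have h5 : s1 = univ \ {i, j} := by
    ext k
    simp [hs1]
  rw [h5, Finset.card_sdiff_of_subset (Finset.subset_univ _), Finset.card_univ, Fintype.card_fin,
    Finset.card_pair hij]

omit hij in
/-- the outer letters do not depend on `i` -/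
theorem ts_eq {i j : Fin n} {τ : E} (hτ : τ ∈ TS Δ f e i) : τ ∈ TS Δ f e j := by
  by_cases hij : i = j
  · rwa [← hij]
  · refine ⟨hτ.1, ?_⟩
    have h1 : f (ez e i + τ) (er e i j) = 1 := by
      rw [h.symm _ hτ.2 _ (h.r_mem i j hij), h.add _ (h.r_mem i j hij), h.f_rz_self hij, hτ.1 i j hij, add_zero]
    have h2 := h.cl _ hτ.2 _ (h.r_mem i j hij) h1
    have h3 : ez e i + τ + er e i j = ez e j + τ := by
      rw [← h.z_add i j]
      abel
    rwa [h3] at h2

/-- `|T|` even: `∑ Cl` is moved by `t_ij`. -/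
theorem f_csum_one [Finite E] (hev : Even (TS Δ f e i).ncard) : f (er e i j) (csum Δ f e i j) = 1 := by
  rw [h.f_csum hij, h.ncard_cl hij]
  obtain ⟨k, hk⟩ := h.odd
  obtain ⟨l, hl⟩ := hev
  have h7 := h.seven
  have h1 : n - 2 + (TS Δ f e i).ncard = 2 * (k - 1 + l) + 1 := by omega
  rw [h1]
  push_cast
  have : (2 : ZMod 2) = 0 := rfl
  rw [this]
  ring

end Sys

end Cfsg.Agent.Omega.F4Leaf.EndC
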