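import Cfsg.Agent.Omega.F4Leaf.EndC.Fr
import Cfsg.Agent.Omega.F4Leaf.EndC.Cl

/-!
# LeafF4, END: the vector `b`

In the frame `Fr` (`EndC/Fr.lean`): `Fr.sys` gives the abstract structure `Sys`, and `Fr.exists_b`: there is
`b ∈ B` moved by `W_ij` with `[b, h] ∈ ⟨r_ij⟩` for all `h ∈ C_G(r_ij)`.
-/

set_option autoImplicit false

namespace Cfsg.Agent.Omega.F4Leaf.EndC

open Subgroup Cfsg Cfsg.Agent.Omega.S5.Def Cfsg.Agent.Omega.NSix.Base Cfsg.Agent.Omega.NSix.Basic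

universe u

variable {G : Type u} [Group G] {n : ℕ}

/-- an odd power is a 2-element -/
theorem two_part [Finite G] (g : G) : ∃ m, Odd m ∧ IsPGroup 2 (zpowers (g ^ m)) := by
  have h0 : orderOf g ≠ 0 := (orderOf_pos g).ne'
  obtain ⟨k, m, hm, hk⟩ := Nat.exists_eq_two_pow_mul_odd h0
  refine ⟨m, hm, ?_⟩
  have h1 : (g ^ m) ^ 2 ^ k = 1 := by
    rw [← pow_mul, mul_comm, ← hk, pow_orderOf_eq_one]
  intro x
  refine ⟨k, ?_⟩
  obtain ⟨j, hj⟩ := mem_zpowers_iff.mp x.2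
  apply Subtype.ext
  change (x : G) ^ 2 ^ k = 1
  rw [← hj, ← zpow_natCast, ← zpow_mul, mul_comm, zpow_mul, zpow_natCast, h1, one_zpow]

/-- an odd power of `g` acts as `g` on elements fixed by `g ^ 2` -/
theorem odd_pow_act {g b : G} (h2 : g * (g * b * g⁻¹) * g⁻¹ = b) {m : ℕ} (hm : Odd m) :
    g ^ m * b * (g ^ m)⁻¹ = g * b * g⁻¹ := by
  obtain ⟨k, rfl⟩ := hm
  induction k with
  | zero => rw [mul_zero, zero_add, pow_one]
  | succ k ih =>
    have e : 2 * (k + 1) + 1 = (2 * k + 1) + 2 := by ring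
    rw [e, pow_add]
    calc g ^ (2 * k + 1) * g ^ 2 * b * (g ^ (2 * k + 1) * g ^ 2)⁻¹
        = g ^ (2 * k + 1) * (g * (g * b * g⁻¹) * g⁻¹) * (g ^ (2 * k + 1))⁻¹ := by
          rw [pow_two]; group
      _ = _ := by rw [h2, ih]

namespace Fr

variable {S : Sylow 2 G} {V L B Sg : Subgroup G} {ε : (Fin n → ZMod 2) → G} {W : Fin n → Fin n → Subgroup G}
  {o : Fin n} (h : Fr S V L B Sg ε W o)
include h

/-- the span of the centres -/
def B1 (B : Subgroup G) (ε : (Fin n → ZMod 2) → G) (W : Fin n → Fin n → Subgroup G) : Subgroup G :=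
  closure {c | ∃ x, X B ε W c x}

theorem b1_le : B1 B ε W ≤ B := by
  unfold B1
  rw [closure_le]
  rintro c ⟨x, hx⟩
  exact h.X_mem hx

omit h in
theorem b1_conj {g b : G} (hg : g ∈ normalizer (B : Set G)) (hb : b ∈ B1 B ε W) : g * b * g⁻¹ ∈ B1 B ε W := by
  unfold B1 at hb ⊢
  induction hb using closure_induction with
  | mem b hb =>
    obtain ⟨x, hx⟩ := hb
    exact subset_closure ⟨_, X_conj hg hx⟩
  | one => rw [mul_one, mul_inv_cancel]; exact one_mem _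
  | mul a b _ _ ha hb =>
    have : g * (a * b) * g⁻¹ = (g * a * g⁻¹) * (g * b * g⁻¹) := by group
    rw [this]; exact mul_mem ha hb
  | inv a _ ha =>
    have : g * a⁻¹ * g⁻¹ = (g * a * g⁻¹)⁻¹ := by group
    rw [this]; exact inv_mem ha

theorem rr_b1 {k l : Fin n} (hkl : k ≠ l) : rr ε k l ∈ B1 B ε W := by
  obtain ⟨w, hw, hs⟩ := h.mov k l hkl
  exact subset_closure ⟨w, X_rr hkl hw hs⟩

theorem zz_b1 (m : Fin n) : zz ε m ∈ B1 B ε W := by
  obtain ⟨i, j, -, hi, hj, -, hij, -, -⟩ := exists_three h.seven {m} (by rw [Finset.card_singleton]; omega)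
  rw [Finset.mem_singleton] at hi hj
  exact NSix.Free.zz_mem_of_rr h.ev h.odd h.three hij (h.rr_b1 hij) (fun a c hac _ _ _ _ => h.rr_b1 hac)
    (Ne.symm hi) (Ne.symm hj)

/-- `r` is perpendicular to all centres. -/
def Perp (B : Subgroup G) (ε : (Fin n → ZMod 2) → G) (W : Fin n → Fin n → Subgroup G) (r : G) : Prop :=
  r ∈ B ∧ ∀ c x, X B ε W c x → x * r * x⁻¹ = r

omit h in
theorem perp_one : Perp B ε W (1 : G) := ⟨one_mem _, fun c x _ => by group⟩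

omit h in
theorem perp_mul {r s : G} (hr : Perp B ε W r) (hs : Perp B ε W s) : Perp B ε W (r * s) :=
  ⟨mul_mem hr.1 hs.1, fun c x hx => by
    calc x * (r * s) * x⁻¹ = (x * r * x⁻¹) * (x * s * x⁻¹) := by group
      _ = _ := by rw [hr.2 c x hx, hs.2 c x hx]⟩

omit h in
theorem perp_inv {r : G} (hr : Perp B ε W r) : Perp B ε W r⁻¹ :=
  ⟨inv_mem hr.1, fun c x hx => by
    calc x * r⁻¹ * x⁻¹ = (x * r * x⁻¹)⁻¹ := by group
      _ = _ := by rw [hr.2 c x hx]⟩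

omit h in
theorem perp_conj {g r : G} (hg : g ∈ normalizer (B : Set G)) (hr : Perp B ε W r) : Perp B ε W (g * r * g⁻¹) := by
  refine ⟨nconj hg hr.1, fun c x hx => ?_⟩
  have h1 := hr.2 _ _ (X_conj (inv_mem hg) hx)
  calc x * (g * r * g⁻¹) * x⁻¹ = g * ((g⁻¹ * x * g⁻¹⁻¹) * r * (g⁻¹ * x * g⁻¹⁻¹)⁻¹) * g⁻¹ := by group
    _ = _ := by rw [h1]

/-- the normal subgroup `E₀` of `Γ` -/
def E0 (B : Subgroup G) (ε : (Fin n → ZMod 2) → G) (W : Fin n → Fin n → Subgroup G) : Subgroup G where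
  carrier := {g | g ∈ normalizer (B : Set G) ∧ (∀ b ∈ B1 B ε W, Perp B ε W (g * b * g⁻¹ * b⁻¹)) ∧
    ∀ r, Perp B ε W r → g * r * g⁻¹ = r}
  one_mem' := ⟨one_mem _, fun b _ => by
    have e : (1 : G) * b * 1⁻¹ * b⁻¹ = 1 := by group
    rw [e]
    exact perp_one, fun r _ => by group⟩
  mul_mem' := by
    rintro g k ⟨hg1, hg2, hg3⟩ ⟨hk1, hk2, hk3⟩
    refine ⟨mul_mem hg1 hk1, fun b hb => ?_, fun r hr => ?_⟩
    · have e1 : g * k * b * (g * k)⁻¹ * b⁻¹ = (g * (k * b * k⁻¹ * b⁻¹) * g⁻¹) * (g * b * g⁻¹ * b⁻¹) := by group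
      rw [e1, hg3 _ (hk2 b hb)]
      exact perp_mul (hk2 b hb) (hg2 b hb)
    · calc g * k * r * (g * k)⁻¹ = g * (k * r * k⁻¹) * g⁻¹ := by group
        _ = r := by rw [hk3 r hr, hg3 r hr]
  inv_mem' := by
    rintro g ⟨hg1, hg2, hg3⟩
    have hg3' : ∀ r, Perp B ε W r → g⁻¹ * r * g = r := by
      intro r hr
      calc g⁻¹ * r * g = g⁻¹ * (g * r * g⁻¹) * g := by rw [hg3 r hr]
        _ = r := by group
    refine ⟨inv_mem hg1, fun b hb => ?_, fun r hr => ?_⟩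
    · have h1 := hg2 b hb
      have h2 := hg3' _ h1
      have h3 : g⁻¹ * b * g⁻¹⁻¹ * b⁻¹ = (g⁻¹ * (g * b * g⁻¹ * b⁻¹) * g)⁻¹ := by group
      rw [h3, h2]
      exact perp_inv h1
    · rw [inv_inv]
      exact hg3' r hr

omit h in
theorem mem_E0 {g : G} : g ∈ E0 B ε W ↔ g ∈ normalizer (B : Set G) ∧
    (∀ b ∈ B1 B ε W, Perp B ε W (g * b * g⁻¹ * b⁻¹)) ∧ ∀ r, Perp B ε W r → g * r * g⁻¹ = r := Iff.rfl

omit h in
theorem e0_conj {γ g : G} (hγ : γ ∈ normalizer (B : Set G)) (hg : g ∈ E0 B ε W) : γ * g * γ⁻¹ ∈ E0 B ε W := by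
  obtain ⟨h1, h2, h3⟩ := mem_E0.mp hg
  rw [mem_E0]
  refine ⟨mul_mem (mul_mem hγ h1) (inv_mem hγ), fun b hb => ?_, fun r hr => ?_⟩
  · have hb' : γ⁻¹ * b * γ ∈ B1 B ε W := by
      have := b1_conj (inv_mem hγ) hb
      rwa [inv_inv] at this
    have h4 := perp_conj hγ (h2 _ hb')
    have e : γ * g * γ⁻¹ * b * (γ * g * γ⁻¹)⁻¹ * b⁻¹ =
        γ * (g * (γ⁻¹ * b * γ) * g⁻¹ * (γ⁻¹ * b * γ)⁻¹) * γ⁻¹ := by group
    rw [e]
    exact h4
  · have h4 := perp_conj (inv_mem hγ) hr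
    have h5 := h3 _ h4
    calc γ * g * γ⁻¹ * r * (γ * g * γ⁻¹)⁻¹ = γ * (g * (γ⁻¹ * r * γ⁻¹⁻¹) * g⁻¹) * γ⁻¹ := by group
      _ = r := by rw [h5]; group

/-- `g ^ 2` centralises `B1` for `g ∈ E₀` -/
theorem e0_sq {g : G} (hg : g ∈ E0 B ε W) {b : G} (hb : b ∈ B1 B ε W) : g * (g * b * g⁻¹) * g⁻¹ = b := by
  obtain ⟨h1, h2, h3⟩ := mem_E0.mp hg
  have h4 := h2 b hb
  set r := g * b * g⁻¹ * b⁻¹ with hr
  have h5 : g * b * g⁻¹ = r * b := by rw [hr]; group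
  rw [h5]
  calc g * (r * b) * g⁻¹ = (g * r * g⁻¹) * (g * b * g⁻¹) := by group
    _ = r * (r * b) := by rw [h3 r h4, h5]
    _ = b := by rw [← mul_assoc, h.sq r h4.1, one_mul]

/-- a 2-element of `E₀` centralises `z_o`, hence all conjugates of points -/
theorem e0_zz [Finite G] {g : G} (hg : g ∈ E0 B ε W) (hg2 : IsPGroup 2 (zpowers g)) : g * zz ε o * g⁻¹ = zz ε o := by
  have hSn : (S : Subgroup G) ≤ normalizer (E0 B ε W : Set G) := by
    intro s hs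
    exact NSix.Free.mem_normalizer_of_le fun x hx => e0_conj (h.LB (h.le hs)) hx
  obtain ⟨e, he, hes⟩ := NSix.EndL.exists_conj_sylow S hSn hg hg2
  obtain ⟨-, he2, -⟩ := mem_E0.mp he
  have hsE : e * g * e⁻¹ ∈ E0 B ε W := mul_mem (mul_mem he hg) (inv_mem he)
  obtain ⟨-, -, hs3⟩ := mem_E0.mp hsE
  have h1 := he2 _ (h.zz_b1 o)
  set r := e * zz ε o * e⁻¹ * (zz ε o)⁻¹ with hr
  set s := e * g * e⁻¹ with hs
  have h2 : e * zz ε o * e⁻¹ = r * zz ε o := by rw [hr]; group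
  have h3 : s * zz ε o * s⁻¹ = zz ε o := by
    rw [mul_inv_eq_iff_eq_mul]
    exact h.fix s hes
  have h4 : s * (e * zz ε o * e⁻¹) * s⁻¹ = e * zz ε o * e⁻¹ := by
    rw [h2]
    calc s * (r * zz ε o) * s⁻¹ = (s * r * s⁻¹) * (s * zz ε o * s⁻¹) := by group
      _ = _ := by rw [hs3 r h1, h3]
  calc g * zz ε o * g⁻¹ = e⁻¹ * (s * (e * zz ε o * e⁻¹) * s⁻¹) * e := by rw [hs]; group
    _ = zz ε o := by rw [h4]; group

theorem e0_zz' [Finite G] {g : G} (hg : g ∈ E0 B ε W) (hg2 : IsPGroup 2 (zpowers g)) {γ : G}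
    (hγ : γ ∈ normalizer (B : Set G)) (k : Fin n) : g * (γ * zz ε k * γ⁻¹) * g⁻¹ = γ * zz ε k * γ⁻¹ := by
  obtain ⟨l, hl, hσ⟩ := h.ev.full (Equiv.swap o k)
  have h1 : l * zz ε o * l⁻¹ = zz ε k := by rw [zz_conj hσ, Equiv.swap_apply_left]
  have hγl : γ * l ∈ normalizer (B : Set G) := mul_mem hγ (h.LB hl)
  have h2 := e0_conj (inv_mem hγl) hg
  have h3 : IsPGroup 2 (zpowers ((γ * l)⁻¹ * g * (γ * l)⁻¹⁻¹)) := by
    have := hg2.map (MulAut.conj (γ * l)⁻¹).toMonoidHom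
    rwa [MonoidHom.map_zpowers] at this
  have h4 := h.e0_zz h2 h3
  have h5 : γ * zz ε k * γ⁻¹ = (γ * l) * zz ε o * (γ * l)⁻¹ := by
    rw [← h1]; group
  rw [h5]
  calc g * ((γ * l) * zz ε o * (γ * l)⁻¹) * g⁻¹ =
      (γ * l) * ((γ * l)⁻¹ * g * (γ * l)⁻¹⁻¹ * zz ε o * ((γ * l)⁻¹ * g * (γ * l)⁻¹⁻¹)⁻¹) * (γ * l)⁻¹ := by group
    _ = _ := by rw [h4]

/-- **(4)** no two centres differ by a vector perpendicular to all centres. -/
theorem noSig [Finite G] {d x σ y : G} (hx : X B ε W d x) (hy : X B ε W (d * σ) y) (hσ : Perp B ε W σ) : σ = 1 := by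
  have hdB := h.X_mem hx
  have hF : ∀ {c z}, X B ε W c z → F B ε W c σ = 0 := fun hz => (h.F_eq_zero hz hσ.1).mpr (hσ.2 _ _ hz)
  -- the two functionals agree on centres
  have hFF : ∀ {c z}, X B ε W c z → F B ε W (d * σ) c = F B ε W d c := by
    intro c z hz
    rw [h.F_symm hy hz, h.F_add hz hdB hσ.1, hF hz, add_zero, h.F_symm hz hx]
  have key : ∀ a : ZMod 2, a = 0 ∨ a = 1 := by decide
  have hxd : x * (d * σ) * x⁻¹ = d * σ := by
    calc x * (d * σ) * x⁻¹ = (x * d * x⁻¹) * (x * σ * x⁻¹) := by group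
      _ = _ := by rw [h.X_self hx, hσ.2 _ _ hx]
  have hd2 := h.sq d hdB
  -- the action of `x y` on centres
  have hact0 : ∀ {c z}, X B ε W c z → F B ε W d c = 0 → x * y * c * (x * y)⁻¹ * c⁻¹ = 1 := by
    intro c z hz h1
    have hcB := h.X_mem hz
    have e : x * y * c * (x * y)⁻¹ = x * (y * c * y⁻¹) * x⁻¹ := by group
    have h2 : F B ε W (d * σ) c = 0 := by rw [hFF hz, h1]
    rw [e, (h.F_eq_zero hy hcB).mp h2, (h.F_eq_zero hx hcB).mp h1]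
    group
  have hact1 : ∀ {c z}, X B ε W c z → F B ε W d c = 1 → x * y * c * (x * y)⁻¹ * c⁻¹ = σ := by
    intro c z hz h1
    have hcB := h.X_mem hz
    have e : x * y * c * (x * y)⁻¹ = x * (y * c * y⁻¹) * x⁻¹ := by group
    have h2 : F B ε W (d * σ) c = 1 := by rw [hFF hz, h1]
    rw [e, (h.F_eq_one hy hcB).mp h2]
    have h3 := (h.F_eq_one hx hcB).mp h1
    have h4 : x * (c * (d * σ)) * x⁻¹ = c * d * (d * σ) := by
      calc x * (c * (d * σ)) * x⁻¹ = (x * c * x⁻¹) * (x * (d * σ) * x⁻¹) := by group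
        _ = _ := by rw [h3, hxd]
    rw [h4]
    calc c * d * (d * σ) * c⁻¹ = c * (d * d) * σ * c⁻¹ := by group
      _ = c * σ * c⁻¹ := by rw [hd2, mul_one]
      _ = σ := by rw [h.comm c hcB σ hσ.1]; group
  have hxN := h.X_norm hx
  have hyN := h.X_norm hy
  have hu : x * y ∈ E0 B ε W := by
    rw [mem_E0]
    refine ⟨mul_mem hxN hyN, fun b hb => ?_, fun r hr => ?_⟩
    · unfold B1 at hb
      induction hb using closure_induction with
      | mem c hc =>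
        obtain ⟨z, hz⟩ := hc
        rcases key (F B ε W d c) with h1 | h1
        · rw [hact0 hz h1]; exact perp_one
        · rw [hact1 hz h1]; exact hσ
      | one =>
        have e : x * y * 1 * (x * y)⁻¹ * 1⁻¹ = 1 := by group
        rw [e]; exact perp_one
      | mul a b ha hb iha ihb =>
        have haB : a ∈ B := h.b1_le ha
        have e : x * y * (a * b) * (x * y)⁻¹ * (a * b)⁻¹ =
            (x * y * a * (x * y)⁻¹ * a⁻¹) * (a * (x * y * b * (x * y)⁻¹ * b⁻¹) * a⁻¹) := by group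
        rw [e]
        refine perp_mul iha ?_
        rw [h.comm a haB _ ihb.1, mul_assoc, mul_inv_cancel, mul_one]
        exact ihb
      | inv a ha iha =>
        have haB : a ∈ B := h.b1_le ha
        have e2 : x * y * a⁻¹ * (x * y)⁻¹ * a⁻¹⁻¹ = a⁻¹ * (x * y * a * (x * y)⁻¹ * a⁻¹)⁻¹ * a := by
          have h5 := h.comm _ (nconj (mul_mem hxN hyN) (inv_mem haB)) _ haB
          calc x * y * a⁻¹ * (x * y)⁻¹ * a⁻¹⁻¹ = x * y * a⁻¹ * (x * y)⁻¹ * a := by group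
            _ = a * (x * y * a⁻¹ * (x * y)⁻¹) := h5
            _ = a⁻¹ * (a * (a * (x * y * a⁻¹ * (x * y)⁻¹))) := by group
            _ = a⁻¹ * (a * (x * y * a⁻¹ * (x * y)⁻¹ * a)) := by rw [h5]
            _ = _ := by group
        rw [e2]
        have h6 := perp_inv iha
        rw [h.comm _ (inv_mem haB) _ h6.1, mul_assoc, inv_mul_cancel, mul_one]
        exact h6
    · calc x * y * r * (x * y)⁻¹ = x * (y * r * y⁻¹) * x⁻¹ := by group
        _ = r := by rw [hr.2 _ _ hy, hr.2 _ _ hx]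
  -- a centre moved by `x y`
  obtain ⟨γ, hγ, k, l, hkl, w, hw, hsw, hdc, -⟩ := id hx
  obtain ⟨m, -, -, hm, -, -, -, -, -⟩ := exists_three h.seven {k, l} (Finset.card_le_two.trans (by omega))
  simp only [Finset.mem_insert, Finset.mem_singleton, not_or] at hm
  obtain ⟨w', hw', hsw'⟩ := h.mov k m (Ne.symm hm.1)
  have hc : X B ε W (γ * rr ε k m * γ⁻¹) (γ * w' * γ⁻¹) := X_conj hγ (X_rr (Ne.symm hm.1) hw' hsw')
  have hf : F B ε W d (γ * rr ε k m * γ⁻¹) = 1 := by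
    rw [hdc, h.F_conj (X_rr hkl hw hsw) hγ (h.rr_memB k m)]
    have h1 := h.F_rr hkl (Pi.single k 1 + Pi.single m 1)
    have e : ε (Pi.single k 1 + Pi.single m 1) = rr ε k m := h.ev.add _ _
    rw [e] at h1
    rw [h1]
    simp only [Pi.add_apply, Pi.single_eq_same, Pi.single_eq_of_ne (Ne.symm hm.1), Pi.single_eq_of_ne (Ne.symm hkl),
      Pi.single_eq_of_ne (Ne.symm hm.2)]
    decide
  obtain ⟨t, ht, ht2⟩ := two_part (x * y)
  have hcb1 : γ * rr ε k m * γ⁻¹ ∈ B1 B ε W := subset_closure ⟨_, hc⟩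
  have h1 := odd_pow_act (h.e0_sq hu hcb1) ht
  have h2 : (x * y) ^ t * (γ * rr ε k m * γ⁻¹) * ((x * y) ^ t)⁻¹ = γ * rr ε k m * γ⁻¹ := by
    have h3 := h.e0_zz' (pow_mem hu t) ht2 hγ k
    have h4 := h.e0_zz' (pow_mem hu t) ht2 hγ m
    have e : γ * rr ε k m * γ⁻¹ = (γ * zz ε k * γ⁻¹) * (γ * zz ε m * γ⁻¹) := by unfold rr; group
    rw [e]
    calc (x * y) ^ t * (γ * zz ε k * γ⁻¹ * (γ * zz ε m * γ⁻¹)) * ((x * y) ^ t)⁻¹
        = ((x * y) ^ t * (γ * zz ε k * γ⁻¹) * ((x * y) ^ t)⁻¹) *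
          ((x * y) ^ t * (γ * zz ε m * γ⁻¹) * ((x * y) ^ t)⁻¹) := by group
      _ = _ := by rw [h3, h4]
  rw [h2] at h1
  have h3 := hact1 hc hf
  rw [← h1, mul_inv_cancel] at h3
  exact h3.symm

end Fr

end Cfsg.Agent.Omega.F4Leaf.EndC
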