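import Cfsg.Agent.Omega.F4Leaf.EndC.B

/-!
# LeafF4, END: the vector `b`, II

`Fr.sys` : the transvection centres in `B` form a `Sys`; `Fr.even_ts` : the number of outer letters is even;
`Fr.exists_b` : there is `b ∈ B` moved by `W_ij` with `[b, g] ∈ ⟨r_ij⟩` for all `g ∈ C_G(r_ij)`.
-/

set_option autoImplicit false

namespace Cfsg.Agent.Omega.F4Leaf.EndC

open Subgroup Cfsg Cfsg.Agent.Omega.S5.Def Cfsg.Agent.Omega.NSix.Base Cfsg.Agent.Omega.NSix.Basic

universe u

variable {G : Type u} [Group G] {n : ℕ}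

/-- a 2-group acting by conjugation on a set of odd size has a fixed point -/
theorem exists_fixed [Finite G] (S : Sylow 2 G) (T : Set G) (hT : ∀ s ∈ (S : Subgroup G), ∀ t ∈ T, s * t * s⁻¹ ∈ T)
    (hodd : ¬ Even T.ncard) : ∃ t ∈ T, ∀ s ∈ (S : Subgroup G), s * t * s⁻¹ = t := by
  letI : MulAction S T :=
    { smul := fun s t => ⟨s * t * (s : G)⁻¹, hT s s.2 t t.2⟩
      one_smul := fun t => Subtype.ext (by
        change ((1 : S) : G) * t * ((1 : S) : G)⁻¹ = t
        rw [OneMemClass.coe_one, one_mul, inv_one, mul_one])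
      mul_smul := fun a b t => Subtype.ext (by
        change ((a * b : S) : G) * t * ((a * b : S) : G)⁻¹ = a * (b * t * (b : G)⁻¹) * (a : G)⁻¹
        rw [Subgroup.coe_mul]
        group) }
  have h1 : ¬ 2 ∣ Nat.card T := fun h2 => hodd (by
    rw [← even_iff_two_dvd] at h2
    exact h2)
  obtain ⟨t, ht⟩ := S.isPGroup'.nonempty_fixed_point_of_prime_not_dvd_card T h1
  refine ⟨t, t.2, fun s hs => ?_⟩
  have h2 := ht ⟨s, hs⟩
  exact congrArg Subtype.val h2

namespace Fr

variable {S : Sylow 2 G} {V L B Sg : Subgroup G} {ε : (Fin n → ZMod 2) → G} {W : Fin n → Fin n → Subgroup G}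
  {o : Fin n} (h : Fr S V L B Sg ε W o)

set_option linter.style.haveILetI false

/-- `B` is commutative -/
@[reducible] def gB (hc : ∀ x ∈ B, ∀ y ∈ B, x * y = y * x) : CommGroup ↥B :=
  { (inferInstance : Group ↥B) with mul_comm := fun x y => Subtype.ext (hc x x.2 y y.2) }

/-- the centres -/
def Dl (B : Subgroup G) (ε : (Fin n → ZMod 2) → G) (W : Fin n → Fin n → Subgroup G) : Set (Additive ↥B) :=
  {c | ∃ x, X B ε W ((Additive.toMul c : ↥B) : G) x}

/-- the functionals -/
noncomputable def ff (B : Subgroup G) (ε : (Fin n → ZMod 2) → G) (W : Fin n → Fin n → Subgroup G) :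
    Additive ↥B → Additive ↥B → ZMod 2 :=
  fun c b => F B ε W ((Additive.toMul c : ↥B) : G) ((Additive.toMul b : ↥B) : G)

/-- the module `V` in `B` -/
def ee (h : Fr S V L B Sg ε W o) : (Fin n → ZMod 2) → Additive ↥B := fun y => Additive.ofMul ⟨ε y, h.eps_mem y⟩

theorem er_coe (i j : Fin n) : ((Additive.toMul (er h.ee i j) : ↥B) : G) = rr ε i j := h.ev.add _ _

theorem ez_coe (i : Fin n) : ((Additive.toMul (ez h.ee i) : ↥B) : G) = zz ε i := rfl

include h

theorem sys [Finite G] : letI := gB h.comm; Sys (Dl B ε W) (ff B ε W) h.ee := by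
  letI := gB h.comm
  have key : ∀ a : ZMod 2, a = 0 ∨ a = 1 := by decide
  refine
    { two := ?_, add := ?_, self := ?_, symm := ?_, cl := ?_, fadd := ?_, e_add := ?_, e_zero := ?_,
      odd := h.odd, seven := h.seven, r_mem := ?_, f_r := ?_, dec := ?_, A1 := ?_, O2 := ?_ }
  · intro x
    exact congrArg Additive.ofMul (Subtype.ext (h.sq _ (Additive.toMul x).2) : (Additive.toMul x) * (Additive.toMul x)
      = 1)
  · rintro c ⟨x, hx⟩ a b
    exact h.F_add hx (Additive.toMul a).2 (Additive.toMul b).2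
  · rintro c ⟨x, hx⟩
    exact h.F_self hx
  · rintro c ⟨x, hx⟩ d ⟨y, hy⟩
    exact h.F_symm hx hy
  · rintro c ⟨x, hx⟩ d ⟨y, hy⟩ hf
    exact ⟨_, h.X_mul hx hy hf⟩
  · rintro c ⟨x, hx⟩ d ⟨y, hy⟩ hf b
    exact h.F_mul hx hy hf (Additive.toMul b).2
  · intro x y
    exact congrArg Additive.ofMul (Subtype.ext (h.ev.add x y) :
      (⟨ε (x + y), h.eps_mem _⟩ : ↥B) = ⟨ε x, h.eps_mem _⟩ * ⟨ε y, h.eps_mem _⟩)
  · intro y
    have h1 : h.ee y = 0 ↔ ε y = 1 := by
      constructor
      · intro h2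
        exact congrArg (fun z : Additive ↥B => ((Additive.toMul z : ↥B) : G)) h2
      · intro h2
        exact congrArg Additive.ofMul (Subtype.ext h2 : (⟨ε y, h.eps_mem y⟩ : ↥B) = 1)
    rw [h1, h.ev.ker]
    constructor
    · rintro (rfl | rfl) i j <;> rfl
    · intro h2
      rcases key (y o) with h3 | h3
      · left; funext i; rw [h2 i o, h3]; rfl
      · right; funext i; rw [h2 i o, h3]; rfl
  · intro i j hij
    obtain ⟨w, hw, hs⟩ := h.mov i j hij
    refine ⟨w, ?_⟩
    rw [h.er_coe]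
    exact X_rr hij hw hs
  · intro i j hij y
    change F B ε W ((Additive.toMul (er h.ee i j) : ↥B) : G) (ε y) = _
    rw [h.er_coe]
    exact h.F_rr hij y
  · intro x
    obtain ⟨v, hv, s, hs, hx⟩ := h.dec _ (Additive.toMul x).2
    obtain ⟨y, rfl⟩ := h.ev.surj v hv
    refine ⟨y, Additive.ofMul ⟨s, h.SB hs⟩, fun i j hij => ?_, ?_⟩
    · change F B ε W ((Additive.toMul (er h.ee i j) : ↥B) : G) s = _
      rw [h.er_coe]
      exact h.F_sg hij hs
    · exact congrArg Additive.ofMul (Subtype.ext hx : (Additive.toMul x) =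
        (⟨ε y, h.eps_mem _⟩ : ↥B) * ⟨s, h.SB hs⟩)
  · rintro y ⟨x, hx⟩
    obtain ⟨k, l, hkl, h1⟩ := h.cen_V hx (h.ev.mem y)
    refine ⟨k, l, hkl, ?_⟩
    have h2 : (Additive.toMul (h.ee y) : ↥B) = Additive.toMul (er h.ee k l) := Subtype.ext (by
      rw [h.er_coe]
      exact h1)
    exact h2
  · rintro d ⟨x, hx⟩ σ ⟨y, hy⟩ hσ
    have h1 : Perp B ε W ((Additive.toMul σ : ↥B) : G) := by
      refine ⟨(Additive.toMul σ).2, fun c z hz => ?_⟩
      have hc := h.X_mem hz
      exact (h.F_eq_zero hz (Additive.toMul σ).2).mp (hσ (Additive.ofMul ⟨c, hc⟩) ⟨z, hz⟩)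
    have h2 := h.noSig hx hy h1
    have h3 : (Additive.toMul σ : ↥B) = 1 := Subtype.ext h2
    exact h3

/-- the outer letters, in `G` -/
def TG (B : Subgroup G) (ε : (Fin n → ZMod 2) → G) (W : Fin n → Fin n → Subgroup G) (o : Fin n) : Set G :=
  {τ | τ ∈ B ∧ (∀ k l, k ≠ l → F B ε W (rr ε k l) τ = 0) ∧ ∃ x, X B ε W (zz ε o * τ) x}

theorem tg_ncard [Finite G] : letI := gB h.comm; (Sys.TS (Dl B ε W) (ff B ε W) h.ee o).ncard = (TG B ε W o).ncard := by
  letI := gB h.comm
  have hinj : Function.Injective (fun c : Additive ↥B => ((Additive.toMul c : ↥B) : G)) := by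
    intro a b hab
    have h1 : (Additive.toMul a : ↥B) = Additive.toMul b := Subtype.ext hab
    exact h1
  rw [← Set.ncard_image_of_injective _ hinj]
  congr 1
  ext τ
  constructor
  · rintro ⟨t, ⟨h1, x, hx⟩, rfl⟩
    refine ⟨(Additive.toMul t).2, fun k l hkl => ?_, x, hx⟩
    have h2 := h1 k l hkl
    change F B ε W ((Additive.toMul (er h.ee k l) : ↥B) : G) _ = _ at h2
    rwa [h.er_coe] at h2
  · rintro ⟨hB, h1, x, hx⟩
    refine ⟨Additive.ofMul ⟨τ, hB⟩, ⟨fun k l hkl => ?_, x, hx⟩, rfl⟩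
    change F B ε W ((Additive.toMul (er h.ee k l) : ↥B) : G) τ = _
    rw [h.er_coe]
    exact h1 k l hkl

theorem tg_conj [Finite G] {s τ : G} (hs : s ∈ (S : Subgroup G)) (hτ : τ ∈ TG B ε W o) : s * τ * s⁻¹ ∈ TG B ε W o := by
  obtain ⟨hB, h1, x, hx⟩ := hτ
  have hsL := h.le hs
  have hsB := h.LB hsL
  refine ⟨nconj hsB hB, fun k l hkl => ?_, s * x * s⁻¹, ?_⟩
  · obtain ⟨σ, hσ⟩ := h.ev.perm s hsL
    have e1 : s * rr ε (σ.symm k) (σ.symm l) * s⁻¹ = rr ε k l := by
      rw [rr_conj hσ, Equiv.apply_symm_apply, Equiv.apply_symm_apply]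
    have hkl' : σ.symm k ≠ σ.symm l := fun h2 => hkl (σ.symm.injective h2)
    obtain ⟨w, hw, hsw⟩ := h.mov _ _ hkl'
    rw [← e1, h.F_conj (X_rr hkl' hw hsw) hsB hB]
    exact h1 _ _ hkl'
  · have h2 := X_conj hsB hx
    have h3 : s * (zz ε o * τ) * s⁻¹ = zz ε o * (s * τ * s⁻¹) := by
      have h4 := h.fix s hs
      calc s * (zz ε o * τ) * s⁻¹ = (s * zz ε o) * τ * s⁻¹ := by group
        _ = _ := by rw [h4]; group
    rwa [h3] at h2

/-- **(7)** the number of outer letters is even. -/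
theorem tg_even [Finite G] : Even (TG B ε W o).ncard := by
  by_contra hodd
  obtain ⟨τ, ⟨hB, h1, x, hx⟩, hfix⟩ := exists_fixed S (TG B ε W o) (fun s hs t ht => h.tg_conj hs ht) hodd
  set c := zz ε o * τ with hc
  have hSc : ∀ s ∈ (S : Subgroup G), s * c * s⁻¹ = c := by
    intro s hs
    have h2 := h.fix s hs
    calc s * c * s⁻¹ = (s * zz ε o) * τ * s⁻¹ := by rw [hc]; group
      _ = zz ε o * (s * τ * s⁻¹) := by rw [h2]; group
      _ = c := by rw [hfix s hs]
  -- a 2-element acting as `t_c`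
  obtain ⟨m, hm, hm2⟩ := two_part x
  have hact : ∀ b ∈ B, x ^ m * b * (x ^ m)⁻¹ = x * b * x⁻¹ := fun b hb => odd_pow_act (h.X_sq hx hb) hm
  have hxN := h.X_norm hx
  let R : Subgroup G :=
    { carrier := {g | (∀ b ∈ B, g * b * g⁻¹ = b) ∨ ∀ b ∈ B, g * b * g⁻¹ = x * b * x⁻¹}
      one_mem' := Or.inl fun b _ => by group
      mul_mem' := by
        rintro g k (hg | hg) (hk | hk)
        · left
          intro b hb
          calc g * k * b * (g * k)⁻¹ = g * (k * b * k⁻¹) * g⁻¹ := by group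
            _ = b := by rw [hk b hb, hg b hb]
        · right
          intro b hb
          calc g * k * b * (g * k)⁻¹ = g * (k * b * k⁻¹) * g⁻¹ := by group
            _ = x * b * x⁻¹ := by rw [hk b hb, hg _ (nconj hxN hb)]
        · right
          intro b hb
          calc g * k * b * (g * k)⁻¹ = g * (k * b * k⁻¹) * g⁻¹ := by group
            _ = x * b * x⁻¹ := by rw [hk b hb, hg b hb]
        · left
          intro b hb
          calc g * k * b * (g * k)⁻¹ = g * (k * b * k⁻¹) * g⁻¹ := by group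
            _ = x * (x * b * x⁻¹) * x⁻¹ := by rw [hk b hb, hg _ (nconj hxN hb)]
            _ = b := h.X_sq hx hb
      inv_mem' := by
        rintro g (hg | hg)
        · left
          intro b hb
          have h2 := hg b hb
          calc g⁻¹ * b * g⁻¹⁻¹ = g⁻¹ * (g * b * g⁻¹) * g⁻¹⁻¹ := by rw [h2]
            _ = b := by group
        · right
          intro b hb
          have h2 := hg _ (nconj hxN hb)
          rw [h.X_sq hx hb] at h2
          calc g⁻¹ * b * g⁻¹⁻¹ = g⁻¹ * (g * (x * b * x⁻¹) * g⁻¹) * g⁻¹⁻¹ := by rw [h2]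
            _ = _ := by group }
  have hxR : x ^ m ∈ R := Or.inr hact
  have hSR : (S : Subgroup G) ≤ normalizer (R : Set G) := by
    intro s hs
    apply NSix.Free.mem_normalizer_of_le
    intro g hg
    have hsB := h.LB (h.le hs)
    have e : ∀ b, s * g * s⁻¹ * b * (s * g * s⁻¹)⁻¹ = s * (g * (s⁻¹ * b * s) * g⁻¹) * s⁻¹ := fun b => by group
    rcases hg with hg | hg
    · left
      intro b hb
      rw [e, hg _ (nconj' hsB hb)]
      group
    · right
      intro b hb
      rw [e, hg _ (nconj' hsB hb)]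
      have h2 := X_conj hsB hx
      rw [hSc s hs] at h2
      rw [h.uniq hx h2 hb]
      group
  obtain ⟨e, he, hes⟩ := NSix.EndL.exists_conj_sylow S hSR hxR hm2
  set s := e * x ^ m * e⁻¹ with hs
  have hsR : s ∈ R := mul_mem (mul_mem he hxR) (inv_mem he)
  have hsact : ∀ b ∈ B, s * b * s⁻¹ = x * b * x⁻¹ := by
    refine hsR.resolve_left fun h2 => ?_
    obtain ⟨b, hb, hne⟩ := h.X_move hx
    apply hne
    rw [← hact b hb]
    have heB : e * b * e⁻¹ ∈ B := by
      rcases he with h3 | h3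
      · rw [h3 b hb]; exact hb
      · rw [h3 b hb]; exact nconj hxN hb
    have h3 := h2 _ heB
    have h4 : x ^ m = e⁻¹ * s * e := by rw [hs]; group
    rw [h4]
    calc e⁻¹ * s * e * b * (e⁻¹ * s * e)⁻¹ = e⁻¹ * (s * (e * b * e⁻¹) * s⁻¹) * e := by group
      _ = b := by rw [h3]; group
  -- a letter `l ≠ o`
  obtain ⟨l, -, -, hl, -, -, -, -, -⟩ := exists_three h.seven {o} (by rw [Finset.card_singleton]; omega)
  rw [Finset.mem_singleton] at hl
  have hval : ∀ a b, a ≠ b → F B ε W (rr ε a b) c = (Pi.single o 1 : Fin n → ZMod 2) a + (Pi.single o 1 : Fin n → ZMod 2) b := by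
    intro a b hab
    obtain ⟨w, hw, hsw⟩ := h.mov a b hab
    have hz : zz ε o ∈ B := h.eps_mem _
    rw [hc, h.F_add (X_rr hab hw hsw) hz hB, h1 a b hab, add_zero]
    exact h.F_rr hab _
  have hol : o ≠ l := Ne.symm hl
  have hcV : c ∈ V := by
    obtain ⟨w, hw, hsw⟩ := h.mov o l hol
    have h2 : F B ε W c (rr ε o l) = 1 := by
      rw [h.F_symm hx (X_rr hol hw hsw), hval o l hol, Pi.single_eq_same, Pi.single_eq_of_ne hl]
      decide
    have h3 := (h.F_eq_one hx (h.rr_memB o l)).mp h2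
    rw [← hsact _ (h.rr_memB o l)] at h3
    have h4 : s * rr ε o l * s⁻¹ ∈ V := by
      obtain ⟨σ, hσ⟩ := h.ev.perm s (h.le hes)
      rw [rr_conj hσ]
      exact rr_mem h.ev _ _
    rw [h3] at h4
    exact (Subgroup.mul_mem_cancel_left V (rr_mem h.ev o l)).mp h4
  obtain ⟨k, k', hkk, hck⟩ := h.cen_V hx hcV
  have hval2 : ∀ a b, a ≠ b → F B ε W (rr ε a b) c =
      (Pi.single k 1 + Pi.single k' 1 : Fin n → ZMod 2) a + (Pi.single k 1 + Pi.single k' 1 : Fin n → ZMod 2) b := by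
    intro a b hab
    rw [hck, ← h.F_rr hab]
    congr 1
    exact (h.ev.add _ _).symm
  -- `a ∈ {k, k'}` different from `o`, `b` outside
  obtain ⟨b, -, -, hb, -, -, -, -, -⟩ := exists_three h.seven {o, k, k'} (Finset.card_le_three.trans (by omega))
  simp only [Finset.mem_insert, Finset.mem_singleton, not_or] at hb
  have fin : ∀ a, a ≠ o → (Pi.single k 1 + Pi.single k' 1 : Fin n → ZMod 2) a = 1 → False := by
    intro a ha ha1
    have hab : a ≠ b := by
      rintro rfl
      rw [Pi.add_apply, Pi.single_eq_of_ne hb.2.1, Pi.single_eq_of_ne hb.2.2] at ha1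
      exact absurd ha1 (by decide)
    have h2 := hval a b hab
    rw [hval2 a b hab, ha1, Pi.add_apply, Pi.single_eq_of_ne hb.2.1, Pi.single_eq_of_ne hb.2.2,
      Pi.single_eq_of_ne ha, Pi.single_eq_of_ne hb.1] at h2
    exact absurd h2 (by decide)
  by_cases hko : k = o
  · refine fin k' (fun h2 => hkk (hko.trans h2.symm)) ?_
    rw [Pi.add_apply, Pi.single_eq_same, Pi.single_eq_of_ne (Ne.symm hkk)]
    decide
  · refine fin k hko ?_
    rw [Pi.add_apply, Pi.single_eq_same, Pi.single_eq_of_ne hkk]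
    decide

/-- conjugation as an endomorphism of `B` -/
def cj {g : G} (hg : g ∈ normalizer (B : Set G)) : ↥B →* ↥B where
  toFun b := ⟨g * b * g⁻¹, nconj hg b.2⟩
  map_one' := Subtype.ext (by change g * 1 * g⁻¹ = 1; group)
  map_mul' a b := Subtype.ext (by change g * (a * b) * g⁻¹ = (g * a * g⁻¹) * (g * b * g⁻¹); group)

/-- **`exists_b`**, frame form. -/
theorem exists_b [Finite G] {i j : Fin n} (hij : i ≠ j) : ∃ b ∈ B, (∃ w ∈ W i j, w * b * w⁻¹ = b * rr ε i j) ∧
    ∀ g ∈ NN ε i j, g * b * g⁻¹ = b ∨ g * b * g⁻¹ = b * rr ε i j := by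
  letI := gB h.comm
  have hsys := h.sys
  have hev : Even (Sys.TS (Dl B ε W) (ff B ε W) h.ee i).ncard := by
    have h1 : Sys.TS (Dl B ε W) (ff B ε W) h.ee i = Sys.TS (Dl B ε W) (ff B ε W) h.ee o :=
      Set.Subset.antisymm (fun τ hτ => hsys.ts_eq hτ) fun τ hτ => hsys.ts_eq hτ
    rw [h1, h.tg_ncard]
    exact h.tg_even
  have h1 := hsys.f_csum_one hij hev
  set b := Sys.csum (Dl B ε W) (ff B ε W) h.ee i j with hb
  refine ⟨((Additive.toMul b : ↥B) : G), (Additive.toMul b).2, ?_, ?_⟩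
  · obtain ⟨w, hw, hs⟩ := h.mov i j hij
    refine ⟨w, hw, ?_⟩
    change F B ε W ((Additive.toMul (er h.ee i j) : ↥B) : G) _ = _ at h1
    rw [h.er_coe] at h1
    exact (h.F_eq_one (X_rr hij hw hs) (Additive.toMul b).2).mp h1
  · intro g hg
    have hgB := h.NB i j hij hg
    have h2 : g * rr ε i j * g⁻¹ = rr ε i j := by
      have := mem_NN'.mp hg
      exact this
    have h3 := hsys.map_csum hij (MonoidHom.toAdditive (cj hgB)) ?_ ?_ ?_ ?_
    · rw [← hb] at h3
      rcases h3 with h3 | h3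
      · left
        exact congrArg (fun z : Additive ↥B => ((Additive.toMul z : ↥B) : G)) h3
      · right
        have h4 := congrArg (fun z : Additive ↥B => ((Additive.toMul z : ↥B) : G)) h3
        change g * _ * g⁻¹ = _ * ((Additive.toMul (er h.ee i j) : ↥B) : G) at h4
        rwa [h.er_coe] at h4
    · intro x y hxy
      have h4 := congrArg (fun z : Additive ↥B => ((Additive.toMul z : ↥B) : G)) hxy
      change g * _ * g⁻¹ = g * _ * g⁻¹ at h4
      have h5 := mul_left_cancel (mul_right_cancel h4)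
      have h6 : (Additive.toMul x : ↥B) = Additive.toMul y := Subtype.ext h5
      exact h6
    · have h4 : (Additive.toMul (MonoidHom.toAdditive (cj hgB) (er h.ee i j)) : ↥B) = Additive.toMul (er h.ee i j) := by
        apply Subtype.ext
        change g * ((Additive.toMul (er h.ee i j) : ↥B) : G) * g⁻¹ = _
        rw [h.er_coe]
        exact h2
      exact h4
    · rintro c ⟨x, hx⟩
      exact ⟨_, X_conj hgB hx⟩
    · rintro c ⟨x, hx⟩ d ⟨y, hy⟩
      exact h.F_conj hx hgB (Additive.toMul d).2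

end Fr

end Cfsg.Agent.Omega.F4Leaf.EndC
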