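import Cfsg.Agent.Omega.NSix.Basic
import Cfsg.Agent.Omega.NSix.Norm
import Cfsg.Agent.Omega.NSix.EndL
import Cfsg.Agent.Omega.NSix.Free.Main

/-!
# LeafF4, END: the frame `B = V Σ`, `Γ = N_G(B)`

`Fr S V L B Sg ε W o` : the structure of bb #17439 / #17493: `V` the even-subset module (`n ≥ 7` odd) for `L ≥ S`,
`B = V Sg` elementary abelian, `C_G(r_ij) ≤ N_G(B)`, `W_ij` normal in `C_G(r_ij)` acts on `V` as `⟨(i j)⟩` and
centralises `Sg`.

* `Fr.X c x` : `x` acts on `B` as the transvection `t_c`, `c ∈ r_12^Γ`;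
* `Fr.uniq`, `Fr.act`, `Fr.conj`, `Fr.F`, `Fr.F_spec`, `Fr.F_add`, `Fr.F_symm`, `Fr.X_mul`, `Fr.F_mul`.
-/

set_option autoImplicit false

namespace Cfsg.Agent.Omega.F4Leaf.EndC

open Subgroup Cfsg Cfsg.Agent.Omega.S5.Def Cfsg.Agent.Omega.NSix.Base Cfsg.Agent.Omega.NSix.Basic

universe u

variable {G : Type u} [Group G] {n : ℕ}

/-- The frame. -/
structure Fr (S : Sylow 2 G) (V L B Sg : Subgroup G) (ε : (Fin n → ZMod 2) → G) (W : Fin n → Fin n → Subgroup G)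
    (o : Fin n) : Prop where
  ev : EvenSet n V L ε
  odd : Odd n
  seven : 7 ≤ n
  le : (S : Subgroup G) ≤ L
  fix : ∀ s ∈ (S : Subgroup G), s * zz ε o = zz ε o * s
  VB : V ≤ B
  SB : Sg ≤ B
  dec : ∀ x ∈ B, ∃ v ∈ V, ∃ s ∈ Sg, x = v * s
  comm : ∀ x ∈ B, ∀ y ∈ B, x * y = y * x
  sq : ∀ x ∈ B, x * x = 1
  LB : L ≤ normalizer (B : Set G)
  NB : ∀ i j, i ≠ j → NN ε i j ≤ normalizer (B : Set G)
  sgl : ∀ g ∈ L, ∀ s ∈ Sg, g * s * g⁻¹ ∈ Sg
  wn : ∀ i j, i ≠ j → ∀ g ∈ NN ε i j, ∀ x ∈ W i j, g * x * g⁻¹ ∈ W i j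
  wc : ∀ (g : G) (σ : Equiv.Perm (Fin n)), Acts ε g σ → ∀ i j, i ≠ j → ∀ x ∈ W i j,
    g * x * g⁻¹ ∈ W (σ i) (σ j)
  wa : ∀ i j, i ≠ j → ∀ w ∈ W i j, Acts ε w 1 ∨ Acts ε w (Equiv.swap i j)
  mov : ∀ i j, i ≠ j → ∃ w ∈ W i j, Acts ε w (Equiv.swap i j)
  cen : ∀ i j, i ≠ j → ∀ w ∈ W i j, ∀ s ∈ Sg, w * s * w⁻¹ = s

/-- `y` with the letters `i`, `j` exchanged -/
theorem swap_eq (y : Fin n → ZMod 2) (i j : Fin n) :
    (y i = y j → y ∘ (Equiv.swap i j).symm = y) ∧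
      (y i ≠ y j → y ∘ (Equiv.swap i j).symm = y + (Pi.single i 1 + Pi.single j 1)) := by
  rw [Equiv.symm_swap]
  constructor
  · intro h
    funext k
    rw [Function.comp_apply]
    by_cases h1 : k = i
    · subst h1
      rw [Equiv.swap_apply_left, h]
    · by_cases h2 : k = j
      · subst h2
        rw [Equiv.swap_apply_right, h]
      · rw [Equiv.swap_apply_of_ne_of_ne h1 h2]
  · intro h
    have hij : i ≠ j := fun h0 => h (by rw [h0])
    have key : ∀ a b : ZMod 2, a ≠ b → b = a + 1 := by decide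
    funext k
    rw [Function.comp_apply, Pi.add_apply, Pi.add_apply]
    by_cases h1 : k = i
    · subst h1
      rw [Equiv.swap_apply_left, Pi.single_eq_same, Pi.single_eq_of_ne hij, add_zero]
      exact key _ _ h
    · by_cases h2 : k = j
      · subst h2
        rw [Equiv.swap_apply_right, Pi.single_eq_same, Pi.single_eq_of_ne (Ne.symm hij), zero_add]
        exact key _ _ (Ne.symm h)
      · rw [Equiv.swap_apply_of_ne_of_ne h1 h2, Pi.single_eq_of_ne h1, Pi.single_eq_of_ne h2, add_zero, add_zero]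

namespace Fr

variable {S : Sylow 2 G} {V L B Sg : Subgroup G} {ε : (Fin n → ZMod 2) → G} {W : Fin n → Fin n → Subgroup G}
  {o : Fin n} (h : Fr S V L B Sg ε W o)

/-- `x` acts on `B` as the transvection with centre `c`. -/
def X (B : Subgroup G) (ε : (Fin n → ZMod 2) → G) (W : Fin n → Fin n → Subgroup G) (c x : G) : Prop :=
  ∃ γ ∈ normalizer (B : Set G), ∃ k l, k ≠ l ∧ ∃ w ∈ W k l, Acts ε w (Equiv.swap k l) ∧
    c = γ * rr ε k l * γ⁻¹ ∧ x = γ * w * γ⁻¹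

include h

theorem three : 3 ≤ n := by have := h.seven; omega

omit h in
theorem nconj {g x : G} (hg : g ∈ normalizer (B : Set G)) (hx : x ∈ B) : g * x * g⁻¹ ∈ B :=
  (mem_normalizer_iff.mp hg x).mp hx

omit h in
theorem nconj' {g x : G} (hg : g ∈ normalizer (B : Set G)) (hx : x ∈ B) : g⁻¹ * x * g ∈ B := by
  have := nconj (inv_mem hg) hx
  rwa [inv_inv] at this

theorem eps_mem (y : Fin n → ZMod 2) : ε y ∈ B := h.VB (h.ev.mem y)

theorem rr_memB (k l : Fin n) : rr ε k l ∈ B := h.VB (rr_mem h.ev k l)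

/-- the action of `w ∈ W_kl` on `B` -/
theorem w_act {k l : Fin n} (hkl : k ≠ l) {w : G} (hw : w ∈ W k l) {σ : Equiv.Perm (Fin n)} (hs : Acts ε w σ)
    (y : Fin n → ZMod 2) {s : G} (hS : s ∈ Sg) : w * (ε y * s) * w⁻¹ = ε (y ∘ σ.symm) * s := by
  have h1 := h.cen k l hkl w hw s hS
  calc w * (ε y * s) * w⁻¹ = (w * ε y * w⁻¹) * (w * s * w⁻¹) := by group
    _ = _ := by rw [h1, hs y]

theorem w_one {k l : Fin n} (hkl : k ≠ l) {w : G} (hw : w ∈ W k l) (hs : Acts ε w 1) {b : G} (hb : b ∈ B) :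
    w * b * w⁻¹ = b := by
  obtain ⟨v, hv, s, hS, rfl⟩ := h.dec b hb
  obtain ⟨y, rfl⟩ := h.ev.surj v hv
  rw [h.w_act hkl hw hs y hS]
  rfl

theorem w_swap {k l : Fin n} (hkl : k ≠ l) {w : G} (hw : w ∈ W k l) (hs : Acts ε w (Equiv.swap k l)) {b : G}
    (hb : b ∈ B) : w * b * w⁻¹ = b ∨ w * b * w⁻¹ = b * rr ε k l := by
  obtain ⟨v, hv, s, hS, rfl⟩ := h.dec b hb
  obtain ⟨y, rfl⟩ := h.ev.surj v hv
  rw [h.w_act hkl hw hs y hS]
  by_cases hy : y k = y l
  · rw [(swap_eq y k l).1 hy]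
    exact Or.inl rfl
  · rw [(swap_eq y k l).2 hy, h.ev.add, h.ev.add]
    right
    have h1 := h.comm s (h.SB hS) _ (h.rr_memB k l)
    calc ε y * (ε (Pi.single k 1) * ε (Pi.single l 1)) * s = ε y * (rr ε k l * s) := by
          rw [mul_assoc]; rfl
      _ = ε y * (s * rr ε k l) := by rw [h1]
      _ = _ := by rw [mul_assoc]

/-- two elements of `W_kl` inducing `(k l)` act equally on `B` -/
theorem w_eq {k l : Fin n} (hkl : k ≠ l) {w w' : G} (hw : w ∈ W k l) (hw' : w' ∈ W k l)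
    (hs : Acts ε w (Equiv.swap k l)) (hs' : Acts ε w' (Equiv.swap k l)) {b : G} (hb : b ∈ B) :
    w * b * w⁻¹ = w' * b * w'⁻¹ := by
  obtain ⟨v, hv, s, hS, rfl⟩ := h.dec b hb
  obtain ⟨y, rfl⟩ := h.ev.surj v hv
  rw [h.w_act hkl hw hs y hS, h.w_act hkl hw' hs' y hS]

theorem w_norm [Finite G] {k l : Fin n} (hkl : k ≠ l) {w : G} (hw : w ∈ W k l) (hs : Acts ε w (Equiv.swap k l)) :
    w ∈ normalizer (B : Set G) := by
  apply Cfsg.Agent.Omega.NSix.Free.mem_normalizer_of_le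
  intro b hb
  rcases h.w_swap hkl hw hs hb with h1 | h1 <;> rw [h1]
  · exact hb
  · exact mul_mem hb (h.rr_memB k l)

theorem zz_ne {k l : Fin n} (hkl : k ≠ l) : zz ε k ≠ zz ε l := fun h0 => hkl (h.ev.single_inj h.three h0)

/-- `W_kl` contains no element which acts trivially and as `(k l)` -/
theorem not_both {k l : Fin n} (hkl : k ≠ l) {w : G} (hs : Acts ε w (Equiv.swap k l))
    (ht : ∀ b ∈ B, w * b * w⁻¹ = b) : False := by
  have h1 := ht _ (h.eps_mem (Pi.single k 1))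
  have h2 := zz_conj hs k
  rw [Equiv.swap_apply_left] at h2
  exact h.zz_ne hkl (h1.symm.trans h2)

variable {c d x y : G}

omit h in
theorem X_rr {k l : Fin n} (hkl : k ≠ l) {w : G} (hw : w ∈ W k l) (hs : Acts ε w (Equiv.swap k l)) :
    X B ε W (rr ε k l) w := ⟨1, one_mem _, k, l, hkl, w, hw, hs, by group, by group⟩

theorem X_mem (hx : X B ε W c x) : c ∈ B := by
  obtain ⟨γ, hγ, k, l, -, w, -, -, rfl, -⟩ := hx
  exact nconj hγ (h.rr_memB k l)

theorem X_ne (hx : X B ε W c x) : c ≠ 1 := by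
  obtain ⟨γ, -, k, l, hkl, w, -, -, rfl, -⟩ := hx
  intro h0
  apply rr_ne_one h.ev h.three hkl
  calc rr ε k l = γ⁻¹ * (γ * rr ε k l * γ⁻¹) * γ := by group
    _ = 1 := by rw [h0]; group

theorem X_norm [Finite G] (hx : X B ε W c x) : x ∈ normalizer (B : Set G) := by
  obtain ⟨γ, hγ, k, l, hkl, w, hw, hs, -, rfl⟩ := hx
  exact mul_mem (mul_mem hγ (h.w_norm hkl hw hs)) (inv_mem hγ)

omit h in
theorem X_conj {g : G} (hg : g ∈ normalizer (B : Set G)) (hx : X B ε W c x) : X B ε W (g * c * g⁻¹) (g * x * g⁻¹) := by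
  obtain ⟨γ, hγ, k, l, hkl, w, hw, hs, rfl, rfl⟩ := hx
  exact ⟨g * γ, mul_mem hg hγ, k, l, hkl, w, hw, hs, by group, by group⟩

theorem X_act (hx : X B ε W c x) {b : G} (hb : b ∈ B) : x * b * x⁻¹ = b ∨ x * b * x⁻¹ = b * c := by
  obtain ⟨γ, hγ, k, l, hkl, w, hw, hs, rfl, rfl⟩ := hx
  have e : γ * w * γ⁻¹ * b * (γ * w * γ⁻¹)⁻¹ = γ * (w * (γ⁻¹ * b * γ) * w⁻¹) * γ⁻¹ := by group
  rw [e]
  rcases h.w_swap hkl hw hs (nconj' hγ hb) with h1 | h1 <;> rw [h1]
  · left; group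
  · right; group

theorem X_self (hx : X B ε W c x) : x * c * x⁻¹ = c := by
  obtain ⟨γ, hγ, k, l, hkl, w, hw, hs, rfl, rfl⟩ := hx
  have h1 : w * rr ε k l * w⁻¹ = rr ε k l := by
    rw [rr_conj hs, Equiv.swap_apply_left, Equiv.swap_apply_right]
    exact rr_symm h.ev _ _
  calc γ * w * γ⁻¹ * (γ * rr ε k l * γ⁻¹) * (γ * w * γ⁻¹)⁻¹ = γ * (w * rr ε k l * w⁻¹) * γ⁻¹ := by group
    _ = _ := by rw [h1]

theorem X_move (hx : X B ε W c x) : ∃ b ∈ B, x * b * x⁻¹ ≠ b := by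
  obtain ⟨γ, hγ, k, l, hkl, w, hw, hs, rfl, rfl⟩ := hx
  refine ⟨γ * zz ε k * γ⁻¹, nconj hγ (h.eps_mem _), fun h0 => ?_⟩
  have h1 := zz_conj hs k
  rw [Equiv.swap_apply_left] at h1
  apply h.zz_ne hkl
  rw [← h1]
  calc zz ε k = γ⁻¹ * (γ * zz ε k * γ⁻¹) * γ := by group
    _ = γ⁻¹ * (γ * w * γ⁻¹ * (γ * zz ε k * γ⁻¹) * (γ * w * γ⁻¹)⁻¹) * γ := by rw [h0]
    _ = _ := by group

/-- `t_c` is determined by `c`. -/
theorem uniq (hx : X B ε W c x) (hy : X B ε W c y) {b : G} (hb : b ∈ B) : x * b * x⁻¹ = y * b * y⁻¹ := by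
  obtain ⟨γ, hγ, k, l, hkl, w, hw, hs, hc, rfl⟩ := hx
  obtain ⟨δ, hδ, p, q, hpq, w', hw', hs', hc', rfl⟩ := hy
  obtain ⟨σ, s1, s2, -⟩ := exists_perm hkl hpq
  obtain ⟨g, hg, hgσ⟩ := h.ev.full σ
  have hgB := h.LB hg
  have h1 : g * rr ε k l * g⁻¹ = rr ε p q := by rw [rr_conj hgσ, s1, s2]
  -- `m = γ⁻¹ δ g ∈ N_kl`
  set m := γ⁻¹ * δ * g with hm
  have hmN : m ∈ NN ε k l := by
    rw [mem_NN', hm]
    calc γ⁻¹ * δ * g * rr ε k l * (γ⁻¹ * δ * g)⁻¹ = γ⁻¹ * (δ * (g * rr ε k l * g⁻¹) * δ⁻¹) * γ := by group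
      _ = γ⁻¹ * (γ * rr ε k l * γ⁻¹) * γ := by rw [h1, ← hc', hc]
      _ = _ := by group
  have h2 : g⁻¹ * w' * g⁻¹⁻¹ ∈ W k l := by
    have h3 := h.wc g⁻¹ _ hgσ.inv p q hpq w' hw'
    have e1 : σ⁻¹ p = k := by rw [← s1]; exact σ.symm_apply_apply k
    have e2 : σ⁻¹ q = l := by rw [← s2]; exact σ.symm_apply_apply l
    rwa [e1, e2] at h3
  have h3 := h.wn k l hkl m hmN _ h2
  set w'' := m * (g⁻¹ * w' * g⁻¹⁻¹) * m⁻¹ with hw''
  have h4 : δ * w' * δ⁻¹ = γ * w'' * γ⁻¹ := by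
    rw [hw'', hm]
    group
  have h5 : Acts ε w'' (Equiv.swap k l) := by
    refine (h.wa k l hkl _ h3).resolve_left fun h6 => ?_
    refine h.not_both hpq hs' fun b hb => ?_
    have h7 : δ⁻¹ * (γ * w'' * γ⁻¹) * δ = w' := by rw [← h4]; group
    have h8 : γ⁻¹ * (δ * b * δ⁻¹) * γ ∈ B := nconj' hγ (nconj hδ hb)
    have h9 := h.w_one hkl h3 h6 h8
    calc w' * b * w'⁻¹ = δ⁻¹ * (γ * w'' * γ⁻¹) * δ * b * (δ⁻¹ * (γ * w'' * γ⁻¹) * δ)⁻¹ := by rw [h7]
      _ = δ⁻¹ * (γ * (w'' * (γ⁻¹ * (δ * b * δ⁻¹) * γ) * w''⁻¹) * γ⁻¹) * δ := by group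
      _ = b := by rw [h9]; group
  rw [h4]
  have h6 := h.w_eq hkl hw h3 hs h5 (nconj' hγ hb)
  calc γ * w * γ⁻¹ * b * (γ * w * γ⁻¹)⁻¹ = γ * (w * (γ⁻¹ * b * γ) * w⁻¹) * γ⁻¹ := by group
    _ = γ * (w'' * (γ⁻¹ * b * γ) * w''⁻¹) * γ⁻¹ := by rw [h6]
    _ = _ := by group

/-! ### The functionals -/

open Classical in
/-- the functional of `t_c` -/
noncomputable def F (B : Subgroup G) (ε : (Fin n → ZMod 2) → G) (W : Fin n → Fin n → Subgroup G) (c b : G) : ZMod 2 :=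
  if ∃ x, X B ε W c x ∧ x * b * x⁻¹ ≠ b then 1 else 0

theorem F_eq_zero (hx : X B ε W c x) {b : G} (hb : b ∈ B) : F B ε W c b = 0 ↔ x * b * x⁻¹ = b := by
  unfold F
  split_ifs with h1
  · obtain ⟨y, hy, h2⟩ := h1
    refine iff_of_false (by decide) fun h3 => h2 ?_
    rw [← h.uniq hx hy hb, h3]
  · refine iff_of_true rfl ?_
    by_contra h2
    exact h1 ⟨x, hx, h2⟩

theorem F_eq_one (hx : X B ε W c x) {b : G} (hb : b ∈ B) : F B ε W c b = 1 ↔ x * b * x⁻¹ = b * c := by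
  constructor
  · intro h1
    rcases h.X_act hx hb with h2 | h2
    · rw [(h.F_eq_zero hx hb).mpr h2] at h1
      exact absurd h1 (by decide)
    · exact h2
  · intro h1
    by_contra h2
    have h3 : F B ε W c b = 0 := by
      have key : ∀ a : ZMod 2, a ≠ 1 → a = 0 := by decide
      exact key _ h2
    rw [(h.F_eq_zero hx hb).mp h3] at h1
    exact h.X_ne hx (mul_left_cancel (h1.symm.trans (mul_one b).symm))

omit h in
theorem pw_mul (hc : c * c = 1) (a b : ZMod 2) : NSix.One.pw c a * NSix.One.pw c b = NSix.One.pw c (a + b) := by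
  have key : ∀ a : ZMod 2, a = 0 ∨ a = 1 := by decide
  have e : (1 : ZMod 2) + 1 = 0 := by decide
  rcases key a with rfl | rfl <;> rcases key b with rfl | rfl <;> simp [e, hc]

theorem F_spec (hx : X B ε W c x) {b : G} (hb : b ∈ B) : x * b * x⁻¹ = b * NSix.One.pw c (F B ε W c b) := by
  have key : ∀ a : ZMod 2, a = 0 ∨ a = 1 := by decide
  rcases key (F B ε W c b) with h1 | h1 <;> rw [h1]
  · rw [NSix.One.pw_zero, mul_one]
    exact (h.F_eq_zero hx hb).mp h1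
  · rw [NSix.One.pw_one]
    exact (h.F_eq_one hx hb).mp h1

theorem pw_inj (hx : X B ε W c x) {a b : ZMod 2} (hab : NSix.One.pw c a = NSix.One.pw c b) : a = b := by
  have key : ∀ a : ZMod 2, a = 0 ∨ a = 1 := by decide
  have hc := h.X_ne hx
  rcases key a with rfl | rfl <;> rcases key b with rfl | rfl
  · rfl
  · rw [NSix.One.pw_zero, NSix.One.pw_one] at hab
    exact absurd hab.symm hc
  · rw [NSix.One.pw_zero, NSix.One.pw_one] at hab
    exact absurd hab hc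
  · rfl

theorem pw_memB (hx : X B ε W c x) (a : ZMod 2) : NSix.One.pw c a ∈ B := by
  have key : ∀ a : ZMod 2, a = 0 ∨ a = 1 := by decide
  rcases key a with rfl | rfl
  · rw [NSix.One.pw_zero]; exact one_mem _
  · rw [NSix.One.pw_one]; exact h.X_mem hx

theorem F_add (hx : X B ε W c x) {b b' : G} (hb : b ∈ B) (hb' : b' ∈ B) :
    F B ε W c (b * b') = F B ε W c b + F B ε W c b' := by
  apply h.pw_inj hx
  have h1 := h.F_spec hx (mul_mem hb hb')
  have h2 := h.F_spec hx hb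
  have h3 := h.F_spec hx hb'
  have h4 := h.comm _ (h.pw_memB hx (F B ε W c b)) _ hb'
  rw [← pw_mul (h.sq _ (h.X_mem hx))]
  have h5 : b * b' * NSix.One.pw c (F B ε W c (b * b')) = b * b' * (NSix.One.pw c (F B ε W c b) *
      NSix.One.pw c (F B ε W c b')) := by
    rw [← h1]
    calc x * (b * b') * x⁻¹ = (x * b * x⁻¹) * (x * b' * x⁻¹) := by group
      _ = b * (NSix.One.pw c (F B ε W c b) * b') * NSix.One.pw c (F B ε W c b') := by rw [h2, h3]; group
      _ = _ := by rw [h4]; group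
  exact mul_left_cancel h5

theorem F_self (hx : X B ε W c x) : F B ε W c c = 0 := (h.F_eq_zero hx (h.X_mem hx)).mpr (h.X_self hx)

theorem F_one (hx : X B ε W c x) : F B ε W c 1 = 0 := (h.F_eq_zero hx (one_mem _)).mpr (by group)

/-- conjugation -/
theorem F_conj (hx : X B ε W c x) {g : G} (hg : g ∈ normalizer (B : Set G)) {b : G} (hb : b ∈ B) :
    F B ε W (g * c * g⁻¹) (g * b * g⁻¹) = F B ε W c b := by
  have h1 := X_conj hg hx
  have key : ∀ a : ZMod 2, a = 0 ∨ a = 1 := by decide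
  rcases key (F B ε W c b) with h2 | h2 <;> rw [h2]
  · rw [h.F_eq_zero h1 (nconj hg hb)]
    have h3 := (h.F_eq_zero hx hb).mp h2
    calc g * x * g⁻¹ * (g * b * g⁻¹) * (g * x * g⁻¹)⁻¹ = g * (x * b * x⁻¹) * g⁻¹ := by group
      _ = _ := by rw [h3]
  · rw [h.F_eq_one h1 (nconj hg hb)]
    have h3 := (h.F_eq_one hx hb).mp h2
    calc g * x * g⁻¹ * (g * b * g⁻¹) * (g * x * g⁻¹)⁻¹ = g * (x * b * x⁻¹) * g⁻¹ := by group
      _ = _ := by rw [h3]; group

/-- **SYM** -/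
theorem F_symm [Finite G] (hx : X B ε W c x) (hy : X B ε W d y) : F B ε W c d = F B ε W d c := by
  have key : ∀ a : ZMod 2, a = 0 ∨ a = 1 := by decide
  -- `f_d c = 0 ⟹ f_c d = 0`
  have main : ∀ {c d x y : G}, X B ε W c x → X B ε W d y → F B ε W d c = 0 → F B ε W c d = 0 := by
    intro c d x y hx hy h1
    by_contra h0
    have h2 : F B ε W c d = 1 := (key _).resolve_left h0
    have hcy : y * c * y⁻¹ = c := (h.F_eq_zero hy (h.X_mem hx)).mp h1
    have hxd : x * d * x⁻¹ = d * c := (h.F_eq_one hx (h.X_mem hy)).mp h2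
    have h3 : X B ε W c (y * x * y⁻¹) := by
      have := X_conj (h.X_norm hy) hx
      rwa [hcy] at this
    obtain ⟨b, hb, hne⟩ := h.X_move hy
    have hyb : y * b * y⁻¹ = b * d := (h.X_act hy hb).resolve_left hne
    have hbd : b * d ∈ B := mul_mem hb (h.X_mem hy)
    have h4 := h.uniq h3 hx hbd
    -- LHS = y (x b x⁻¹) y⁻¹
    have h5 : y * x * y⁻¹ * (b * d) * (y * x * y⁻¹)⁻¹ = y * (x * b * x⁻¹) * y⁻¹ := by
      rw [← hyb]
      group
    have h6 : x * (b * d) * x⁻¹ = (x * b * x⁻¹) * (d * c) := by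
      rw [← hxd]
      group
    rw [h5, h6] at h4
    have hc2 := h.sq _ (h.X_mem hx)
    have hdc := h.comm _ (h.X_mem hy) _ (h.X_mem hx)
    rcases h.X_act hx hb with h7 | h7
    · rw [h7, hyb] at h4
      have h8 : b * d * 1 = b * d * c := by
        rw [mul_one, mul_assoc]
        exact h4
      exact h.X_ne hx (mul_left_cancel h8).symm
    · rw [h7] at h4
      have h9 : y * (b * c) * y⁻¹ = b * d * c := by
        calc y * (b * c) * y⁻¹ = (y * b * y⁻¹) * (y * c * y⁻¹) := by group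
          _ = _ := by rw [hyb, hcy]
      rw [h9] at h4
      have h8 : b * d * c * 1 = b * d * c * c := by
        rw [mul_one]
        calc b * d * c = b * c * (d * c) := h4
          _ = b * (c * d) * c := by group
          _ = b * (d * c) * c := by rw [hdc]
          _ = b * d * c * c := by group
      exact h.X_ne hx (mul_left_cancel h8).symm
  rcases key (F B ε W d c) with h1 | h1
  · rw [h1, main hx hy h1]
  · rw [h1]
    by_contra h2
    have h3 : F B ε W c d = 0 := (key _).resolve_right h2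
    rw [main hy hx h3] at h1
    exact absurd h1 (by decide)

/-- `f_c d = 1 ⟹ c d` is a centre. -/
theorem X_mul [Finite G] (hx : X B ε W c x) (hy : X B ε W d y) (hf : F B ε W c d = 1) :
    X B ε W (c * d) (x * y * x⁻¹) := by
  have h1 := (h.F_eq_one hx (h.X_mem hy)).mp hf
  have h2 := X_conj (h.X_norm hx) hy
  rwa [h1, h.comm _ (h.X_mem hy) _ (h.X_mem hx)] at h2

theorem X_sq (hx : X B ε W c x) {b : G} (hb : b ∈ B) : x * (x * b * x⁻¹) * x⁻¹ = b := by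
  rcases h.X_act hx hb with h1 | h1
  · rw [h1, h1]
  · rw [h1]
    have h2 : x * (b * c) * x⁻¹ = (x * b * x⁻¹) * (x * c * x⁻¹) := by group
    rw [h2, h1, h.X_self hx, mul_assoc, h.sq _ (h.X_mem hx), mul_one]

theorem F_mul [Finite G] (hx : X B ε W c x) (hy : X B ε W d y) (hf : F B ε W c d = 1) {b : G} (hb : b ∈ B) :
    F B ε W (c * d) b = F B ε W c b + F B ε W d b := by
  have h1 := h.X_mul hx hy hf
  have hf' : F B ε W d c = 1 := by rw [← h.F_symm hx hy]; exact hf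
  have hxd := (h.F_eq_one hx (h.X_mem hy)).mp hf
  have hyc := (h.F_eq_one hy (h.X_mem hx)).mp hf'
  -- `F (c d) (x b x⁻¹) = F d b`
  have h2 : F B ε W (c * d) (x * b * x⁻¹) = F B ε W d b := by
    have h3 := h.F_conj hy (h.X_norm hx) hb
    rwa [hxd, h.comm _ (h.X_mem hy) _ (h.X_mem hx)] at h3
  have h4 : F B ε W (c * d) c = 1 := by
    have h5 := h.F_conj hy (h.X_norm hx) (h.X_mem hx)
    rw [hxd, h.X_self hx, h.comm _ (h.X_mem hy) _ (h.X_mem hx)] at h5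
    rw [h5, hf']
  have key : ∀ a : ZMod 2, a = 0 ∨ a = 1 := by decide
  rcases key (F B ε W c b) with h6 | h6
  · rw [(h.F_eq_zero hx hb).mp h6] at h2
    rw [h2, h6, zero_add]
  · rw [(h.F_eq_one hx hb).mp h6, h.F_add h1 hb (h.X_mem hx), h4] at h2
    rw [h6, ← h2]
    have key2 : ∀ a : ZMod 2, a = 1 + (a + 1) := by decide
    exact key2 _

/-! ### Pairs -/

theorem F_rr [Finite G] {k l : Fin n} (hkl : k ≠ l) (y : Fin n → ZMod 2) : F B ε W (rr ε k l) (ε y) = y k + y l := by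
  obtain ⟨w, hw, hs⟩ := h.mov k l hkl
  have hx := X_rr (B := B) hkl hw hs
  by_cases hy : y k = y l
  · rw [hy, CharTwo.add_self_eq_zero, h.F_eq_zero hx (h.eps_mem y), hs y, (swap_eq y k l).1 hy]
  · have h1 : y k + y l = 1 := by
      have key : ∀ a b : ZMod 2, a ≠ b → a + b = 1 := by decide
      exact key _ _ hy
    rw [h1, h.F_eq_one hx (h.eps_mem y), hs y, (swap_eq y k l).2 hy, h.ev.add, h.ev.add]
    rfl

theorem F_sg {k l : Fin n} (hkl : k ≠ l) {s : G} (hs : s ∈ Sg) : F B ε W (rr ε k l) s = 0 := by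
  obtain ⟨w, hw, hsw⟩ := h.mov k l hkl
  rw [h.F_eq_zero (X_rr (B := B) hkl hw hsw) (h.SB hs)]
  exact h.cen k l hkl w hw s hs

/-- **(2)** the centres in `V` are the pairs. -/
theorem cen_V [Finite G] (hx : X B ε W c x) (hc : c ∈ V) : ∃ k l, k ≠ l ∧ c = rr ε k l := by
  have hN : EvenSet n V (normalizer (V : Set G)) ε := NSix.Norm.evenSet (by have := h.seven; omega) h.odd S h.ev h.le
    (o := o) fun s hs σ hσ => (h.ev.fixes_iff h.three hσ o).mp (h.fix s hs)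
  have hxV : x ∈ normalizer (V : Set G) := by
    apply NSix.Free.mem_normalizer_of_le
    intro v hv
    rcases h.X_act hx (h.VB hv) with h1 | h1 <;> rw [h1]
    · exact hv
    · exact mul_mem hv hc
  obtain ⟨σ, hσ⟩ := hN.perm x hxV
  obtain ⟨k, hk⟩ : ∃ k, σ k ≠ k := by
    by_contra hcon
    push Not at hcon
    have h1 : σ = 1 := Equiv.ext hcon
    subst h1
    obtain ⟨b, hb, hne⟩ := h.X_move hx
    -- `x` centralises `V`, so `c` is orthogonal to all pairs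
    have h2 := h.ev.acts_one_iff.mp hσ
    have h3 : ∀ v ∈ V, x * v * x⁻¹ = v := fun v hv => by
      rw [mul_inv_eq_iff_eq_mul]
      exact (mem_centralizer_iff.mp h2 v hv).symm
    obtain ⟨y, rfl⟩ := h.ev.surj c hc
    have h4 : ∀ i j, i ≠ j → y i + y j = 0 := by
      intro i j hij
      obtain ⟨w, hw, hs⟩ := h.mov i j hij
      rw [← h.F_rr hij y, h.F_symm (X_rr (B := B) hij hw hs) hx, h.F_eq_zero hx (h.rr_memB i j)]
      exact h3 _ (rr_mem h.ev i j)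
    apply h.X_ne hx
    rw [h.ev.ker]
    have key : ∀ a b : ZMod 2, a + b = 0 → a = b := by decide
    have h5 : ∀ i j, y i = y j := fun i j => by
      by_cases hij : i = j
      · rw [hij]
      · exact key _ _ (h4 i j hij)
    have key2 : ∀ a : ZMod 2, a = 0 ∨ a = 1 := by decide
    rcases key2 (y o) with h6 | h6
    · left; funext i; rw [h5 i o, h6]; rfl
    · right; funext i; rw [h5 i o, h6]; rfl
  have h1 := zz_conj hσ k
  refine ⟨k, σ k, Ne.symm hk, ?_⟩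
  rcases h.X_act hx (h.eps_mem (Pi.single k 1)) with h2 | h2
  · exact absurd (h2.symm.trans h1) (h.zz_ne (Ne.symm hk))
  · unfold rr
    rw [← h1]
    change c = zz ε k * (x * ε (Pi.single k 1) * x⁻¹)
    rw [h2]
    change c = zz ε k * (zz ε k * c)
    rw [← mul_assoc, zz_sq h.ev, one_mul]

end Fr

end Cfsg.Agent.Omega.F4Leaf.EndC
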