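import Mathlib

/-!
# LeafF4, END (bb #17753 ff.): transvection centres over the even-subset module

`E` an elementary abelian 2-group, `Δ ⊆ E` with functionals `f c` (`c ∈ Δ`), closed under the transvections
`t_c : x ↦ x + f c x • c`; `e : F₂ⁿ → E` (`n ≥ 7` odd) with kernel `{0, 1}`, `r_ij = e (δ_i + δ_j) ∈ Δ`,
`Σ = ⋂ ker f (r_ij)`, `E = im e + Σ`, `Δ ∩ im e = {r_ij}`, and no `d, d + σ ∈ Δ` with `σ ≠ 0` perpendicular to `Δ`.

* `Sys.cases` : `Δ ⊆ Σ ∪ (z_i + Σ) ∪ {r_ij}`;
* `Sys.Cl i j` : `{r_ik} ∪ {z_i + τ}`; `Sys.cl_pair` : distinct elements of `Cl i j` have `f = 1`;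
* `Sys.near` : `{c ∈ Δ | f (r_ij) c = 1} = Cl i j ∪ (r_ij + Cl i j)`;
* `Sys.map_sum` : an automorphism of `(Δ, f)` fixing `r_ij` maps `∑ Cl` to `∑ Cl` or `∑ Cl + r_ij`.
-/

set_option autoImplicit false

namespace Cfsg.Agent.Omega.F4Leaf.EndC

open Finset

variable {E : Type*} [AddCommGroup E] {n : ℕ}

/-- the point `z_i` -/
def ez (e : (Fin n → ZMod 2) → E) (i : Fin n) : E := e (Pi.single i 1)

/-- the pair `r_ij` -/
def er (e : (Fin n → ZMod 2) → E) (i j : Fin n) : E := e (Pi.single i 1 + Pi.single j 1)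

/-- Transvection centres over the even-subset module. -/
structure Sys (Δ : Set E) (f : E → E → ZMod 2) (e : (Fin n → ZMod 2) → E) : Prop where
  two : ∀ x : E, x + x = 0
  add : ∀ c ∈ Δ, ∀ x y, f c (x + y) = f c x + f c y
  self : ∀ c ∈ Δ, f c c = 0
  symm : ∀ c ∈ Δ, ∀ d ∈ Δ, f c d = f d c
  cl : ∀ c ∈ Δ, ∀ d ∈ Δ, f c d = 1 → c + d ∈ Δ
  fadd : ∀ c ∈ Δ, ∀ d ∈ Δ, f c d = 1 → ∀ x, f (c + d) x = f c x + f d x
  e_add : ∀ x y, e (x + y) = e x + e y
  e_zero : ∀ y, e y = 0 ↔ ∀ i j, y i = y j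
  odd : Odd n
  seven : 7 ≤ n
  r_mem : ∀ i j, i ≠ j → er e i j ∈ Δ
  f_r : ∀ i j, i ≠ j → ∀ y, f (er e i j) (e y) = y i + y j
  dec : ∀ x : E, ∃ y σ, (∀ i j, i ≠ j → f (er e i j) σ = 0) ∧ x = e y + σ
  A1 : ∀ y, e y ∈ Δ → ∃ i j, i ≠ j ∧ e y = er e i j
  O2 : ∀ d ∈ Δ, ∀ σ, d + σ ∈ Δ → (∀ c ∈ Δ, f c σ = 0) → σ = 0

/-! ### Vectors -/

theorem zmod_cases (a : ZMod 2) : a = 0 ∨ a = 1 := by
  revert a
  decide

theorem zmod_ne_zero {a : ZMod 2} (h : a ≠ 0) : a = 1 := (zmod_cases a).resolve_left h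

theorem zmod_ne_one {a : ZMod 2} (h : a ≠ 1) : a = 0 := (zmod_cases a).resolve_right h

theorem zmod_add_self (a : ZMod 2) : a + a = 0 := by
  revert a
  decide

/-- A vector is constant, `δ_i`, `1 + δ_i`, `δ_i + δ_j`, `1 + δ_i + δ_j`, or has three ones and three zeros. -/
theorem vec_cases (y : Fin n → ZMod 2) :
    (∀ i j, y i = y j) ∨ (∃ i, y = Pi.single i 1 ∨ y = Pi.single i 1 + 1) ∨
      (∃ i j, i ≠ j ∧ (y = Pi.single i 1 + Pi.single j 1 ∨ y = Pi.single i 1 + Pi.single j 1 + 1)) ∨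
      ∃ a b c p q r, a ≠ b ∧ a ≠ c ∧ b ≠ c ∧ p ≠ q ∧ p ≠ r ∧ q ≠ r ∧ y a = 1 ∧ y b = 1 ∧ y c = 1 ∧ y p = 0 ∧
        y q = 0 ∧ y r = 0 := by
  classical
  set s1 : Finset (Fin n) := univ.filter fun i => y i = 1 with hs1
  set s0 : Finset (Fin n) := univ.filter fun i => y i = 0 with hs0
  have m1 : ∀ i, i ∈ s1 ↔ y i = 1 := fun i => by simp [hs1]
  have m0 : ∀ i, i ∈ s0 ↔ y i = 0 := fun i => by simp [hs0]
  by_cases h1 : 2 < s1.card
  · by_cases h0 : 2 < s0.card
    · obtain ⟨a, ha, b, hb, c, hc, h2, h3, h4⟩ := Finset.two_lt_card.mp h1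
      obtain ⟨p, hp, q, hq, r, hr, h5, h6, h7⟩ := Finset.two_lt_card.mp h0
      exact Or.inr (Or.inr (Or.inr ⟨a, b, c, p, q, r, h2, h3, h4, h5, h6, h7, (m1 _).mp ha, (m1 _).mp hb,
        (m1 _).mp hc, (m0 _).mp hp, (m0 _).mp hq, (m0 _).mp hr⟩))
    · have h2 : s0.card = 0 ∨ s0.card = 1 ∨ s0.card = 2 := by omega
      rcases h2 with h2 | h2 | h2
      · left
        rw [Finset.card_eq_zero] at h2
        have h3 : ∀ i, y i = 1 := fun i => zmod_ne_zero fun h4 => by
          have := (m0 i).mpr h4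
          rw [h2] at this
          exact absurd this (Finset.notMem_empty i)
        intro i j
        rw [h3, h3]
      · right; left
        obtain ⟨i, hi⟩ := Finset.card_eq_one.mp h2
        refine ⟨i, Or.inr (funext fun k => ?_)⟩
        rw [Pi.add_apply, Pi.one_apply]
        by_cases hk : k = i
        · subst hk
          rw [Pi.single_eq_same, (m0 k).mp (hi ▸ Finset.mem_singleton_self k)]
          decide
        · rw [Pi.single_eq_of_ne hk, zero_add]
          refine zmod_ne_zero fun h4 => hk ?_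
          have := (m0 k).mpr h4
          rw [hi, Finset.mem_singleton] at this
          exact this
      · right; right; left
        obtain ⟨i, j, hij, hi⟩ := Finset.card_eq_two.mp h2
        refine ⟨i, j, hij, Or.inr (funext fun k => ?_)⟩
        rw [Pi.add_apply, Pi.add_apply, Pi.one_apply]
        by_cases hk : k = i
        · subst hk
          rw [Pi.single_eq_same, Pi.single_eq_of_ne hij,
            (m0 k).mp (hi ▸ Finset.mem_insert_self k _)]
          decide
        · by_cases hk' : k = j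
          · subst hk'
            rw [Pi.single_eq_same, Pi.single_eq_of_ne hij.symm,
              (m0 k).mp (hi ▸ Finset.mem_insert_of_mem (Finset.mem_singleton_self k))]
            decide
          · rw [Pi.single_eq_of_ne hk, Pi.single_eq_of_ne hk', zero_add, zero_add]
            refine zmod_ne_zero fun h4 => ?_
            have := (m0 k).mpr h4
            rw [hi, Finset.mem_insert, Finset.mem_singleton] at this
            tauto
  · have h2 : s1.card = 0 ∨ s1.card = 1 ∨ s1.card = 2 := by omega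
    rcases h2 with h2 | h2 | h2
    · left
      rw [Finset.card_eq_zero] at h2
      have h3 : ∀ i, y i = 0 := fun i => zmod_ne_one fun h4 => by
        have := (m1 i).mpr h4
        rw [h2] at this
        exact absurd this (Finset.notMem_empty i)
      intro i j
      rw [h3, h3]
    · right; left
      obtain ⟨i, hi⟩ := Finset.card_eq_one.mp h2
      refine ⟨i, Or.inl (funext fun k => ?_)⟩
      by_cases hk : k = i
      · subst hk
        rw [Pi.single_eq_same, (m1 k).mp (hi ▸ Finset.mem_singleton_self k)]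
      · rw [Pi.single_eq_of_ne hk]
        refine zmod_ne_one fun h4 => hk ?_
        have := (m1 k).mpr h4
        rw [hi, Finset.mem_singleton] at this
        exact this
    · right; right; left
      obtain ⟨i, j, hij, hi⟩ := Finset.card_eq_two.mp h2
      refine ⟨i, j, hij, Or.inl (funext fun k => ?_)⟩
      rw [Pi.add_apply]
      by_cases hk : k = i
      · subst hk
        rw [Pi.single_eq_same, Pi.single_eq_of_ne hij, (m1 k).mp (hi ▸ Finset.mem_insert_self k _), add_zero]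
      · by_cases hk' : k = j
        · subst hk'
          rw [Pi.single_eq_same, Pi.single_eq_of_ne hij.symm,
            (m1 k).mp (hi ▸ Finset.mem_insert_of_mem (Finset.mem_singleton_self k)), zero_add]
        · rw [Pi.single_eq_of_ne hk, Pi.single_eq_of_ne hk', zero_add]
          refine zmod_ne_one fun h4 => ?_
          have := (m1 k).mpr h4
          rw [hi, Finset.mem_insert, Finset.mem_singleton] at this
          tauto

namespace Sys

variable {Δ : Set E} {f : E → E → ZMod 2} {e : (Fin n → ZMod 2) → E} (h : Sys Δ f e)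

/-- the complement `Σ` -/
def IsSig (f : E → E → ZMod 2) (e : (Fin n → ZMod 2) → E) (σ : E) : Prop :=
  ∀ i j, i ≠ j → f (er e i j) σ = 0

omit [AddCommGroup E] in
theorem er_symm (e : (Fin n → ZMod 2) → E) (i j : Fin n) : er e i j = er e j i := by
  unfold er
  rw [add_comm]

include h

theorem er_eq (i j : Fin n) : er e i j = ez e i + ez e j := h.e_add _ _

theorem e_one : e (1 : Fin n → ZMod 2) = 0 := (h.e_zero _).mpr fun _ _ => rfl

theorem f_zero {c : E} (hc : c ∈ Δ) : f c 0 = 0 := by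
  have h1 := h.add c hc 0 0
  rw [add_zero] at h1
  exact (add_eq_left.mp h1.symm)

theorem sig_zero : IsSig f e 0 := fun i j hij => h.f_zero (h.r_mem i j hij)

theorem sig_add {σ τ : E} (h1 : IsSig f e σ) (h2 : IsSig f e τ) : IsSig f e (σ + τ) := fun i j hij => by
  rw [h.add _ (h.r_mem i j hij), h1 i j hij, h2 i j hij, add_zero]

theorem f_rr {i j k l : Fin n} (hij : i ≠ j) : f (er e i j) (er e k l) =
    (Pi.single k 1 + Pi.single l 1 : Fin n → ZMod 2) i + (Pi.single k 1 + Pi.single l 1 : Fin n → ZMod 2) j :=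
  h.f_r i j hij _

theorem f_rz {i j k : Fin n} (hij : i ≠ j) : f (er e i j) (ez e k) =
    (Pi.single k 1 : Fin n → ZMod 2) i + (Pi.single k 1 : Fin n → ZMod 2) j := h.f_r i j hij _

/-- disjoint pairs -/
theorem f_disj {i j k l : Fin n} (hij : i ≠ j) (h1 : i ≠ k) (h2 : i ≠ l) (h3 : j ≠ k) (h4 : j ≠ l) :
    f (er e i j) (er e k l) = 0 := by
  rw [h.f_rr hij]
  simp only [Pi.add_apply, Pi.single_eq_of_ne h1, Pi.single_eq_of_ne h2, Pi.single_eq_of_ne h3,
    Pi.single_eq_of_ne h4, add_zero]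

/-- pairs with one common letter -/
theorem f_meet {i j k : Fin n} (hij : i ≠ j) (hik : i ≠ k) (hjk : j ≠ k) : f (er e i j) (er e i k) = 1 := by
  rw [h.f_rr hij]
  simp only [Pi.add_apply, Pi.single_eq_same, Pi.single_eq_of_ne hik, Pi.single_eq_of_ne hij.symm,
    Pi.single_eq_of_ne hjk, add_zero]

theorem f_rz_self {i j : Fin n} (hij : i ≠ j) : f (er e i j) (ez e i) = 1 := by
  rw [h.f_rz hij, Pi.single_eq_same, Pi.single_eq_of_ne hij.symm, add_zero]

theorem f_rz_of_ne {i j k : Fin n} (hij : i ≠ j) (hi : i ≠ k) (hj : j ≠ k) : f (er e i j) (ez e k) = 0 := by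
  rw [h.f_rz hij, Pi.single_eq_of_ne hi, Pi.single_eq_of_ne hj, add_zero]

/-- `f d r_ij` for `d = e y + σ ∈ Δ` -/
theorem f_left {y : Fin n → ZMod 2} {σ : E} (hσ : IsSig f e σ) (hd : e y + σ ∈ Δ) {i j : Fin n} (hij : i ≠ j) :
    f (e y + σ) (er e i j) = y i + y j := by
  rw [h.symm _ hd _ (h.r_mem i j hij), h.add _ (h.r_mem i j hij), h.f_r i j hij, hσ i j hij, add_zero]

/-- the transvection `t_ij` -/
theorem move {y : Fin n → ZMod 2} {σ : E} (hσ : IsSig f e σ) (hd : e y + σ ∈ Δ) {i j : Fin n} (hij : i ≠ j)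
    (hy : y i ≠ y j) : e (y + (Pi.single i 1 + Pi.single j 1)) + σ ∈ Δ := by
  have h1 : f (e y + σ) (er e i j) = 1 := by
    rw [h.f_left hσ hd hij]
    refine zmod_ne_zero fun h2 => hy ?_
    rcases zmod_cases (y i) with h3 | h3 <;> rcases zmod_cases (y j) with h4 | h4 <;> rw [h3, h4] at h2 ⊢
    · exact absurd h2 (by decide)
    · exact absurd h2 (by decide)
  have h2 := h.cl _ hd _ (h.r_mem i j hij) h1
  have h3 : e y + σ + er e i j = e (y + (Pi.single i 1 + Pi.single j 1)) + σ := by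
    rw [h.e_add]
    unfold er
    abel
  rwa [h3] at h2

/-- a 6-set is not in `Δ` -/
theorem six {a b c p q r : Fin n} (hd : e ((Pi.single a 1 + Pi.single p 1) + (Pi.single b 1 + Pi.single q 1) +
    (Pi.single c 1 + Pi.single r 1)) ∈ Δ) (hnd : ([a, b, c, p, q, r] : List (Fin n)).Nodup) : False := by
  classical
  obtain ⟨i, j, -, hE⟩ := h.A1 _ hd
  have h1 : e ((Pi.single a 1 + Pi.single p 1) + (Pi.single b 1 + Pi.single q 1) +
      (Pi.single c 1 + Pi.single r 1) + (Pi.single i 1 + Pi.single j 1)) = 0 := by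
    rw [h.e_add, hE]
    exact h.two _
  rw [h.e_zero] at h1
  set y : Fin n → ZMod 2 := (Pi.single a 1 + Pi.single p 1) + (Pi.single b 1 + Pi.single q 1) +
      (Pi.single c 1 + Pi.single r 1) + (Pi.single i 1 + Pi.single j 1) with hy
  -- the total is even, so `y = 0`; but `y` is not zero at one of the six letters
  have hsum : ∑ k, y k = 0 := by
    have h2 : ∀ i : Fin n, ∑ k, (Pi.single i 1 : Fin n → ZMod 2) k = 1 := fun i => by
      rw [Finset.sum_pi_single']
      simp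
    rw [hy]
    simp only [Pi.add_apply, Finset.sum_add_distrib, h2]
    decide
  have hy0 : ∀ k, y k = 0 := by
    intro k
    by_contra h2
    have h3 : ∀ l, y l = 1 := fun l => (h1 l k).trans (zmod_ne_zero h2)
    rw [Finset.sum_congr rfl fun l _ => h3 l, Finset.sum_const, Finset.card_univ, Fintype.card_fin,
      nsmul_eq_mul, mul_one] at hsum
    have h4 : (n : ZMod 2) = 1 := by
      obtain ⟨k, hk⟩ := h.odd
      rw [hk]
      push_cast
      have : (2 : ZMod 2) = 0 := rfl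
      rw [this]
      ring
    rw [h4] at hsum
    exact absurd hsum (by decide)
  simp only [List.nodup_cons, List.mem_cons, List.not_mem_nil, or_false, not_or, List.nodup_nil, and_true,
    not_false_eq_true] at hnd
  obtain ⟨⟨n1, n2, n3, n4, n5⟩, ⟨n6, n7, n8, n9⟩, ⟨n10, n11, n12⟩, ⟨n13, n14⟩, n15⟩ := hnd
  have key : ∀ k, k ≠ i → k ≠ j → (Pi.single i 1 + Pi.single j 1 : Fin n → ZMod 2) k = 0 := fun k h2 h3 => by
    rw [Pi.add_apply, Pi.single_eq_of_ne h2, Pi.single_eq_of_ne h3, add_zero]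
  have ha : a = i ∨ a = j := by
    by_contra h2
    rw [not_or] at h2
    have h3 := hy0 a
    rw [hy, Pi.add_apply, key a h2.1 h2.2] at h3
    simp only [Pi.add_apply, Pi.single_eq_same, Pi.single_eq_of_ne n1, Pi.single_eq_of_ne n2,
      Pi.single_eq_of_ne n3, Pi.single_eq_of_ne n4, Pi.single_eq_of_ne n5] at h3
    exact absurd h3 (by decide)
  have hb : b = i ∨ b = j := by
    by_contra h2
    rw [not_or] at h2
    have h3 := hy0 b
    rw [hy, Pi.add_apply, key b h2.1 h2.2] at h3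
    simp only [Pi.add_apply, Pi.single_eq_same, Pi.single_eq_of_ne (Ne.symm n1), Pi.single_eq_of_ne n6,
      Pi.single_eq_of_ne n7, Pi.single_eq_of_ne n8, Pi.single_eq_of_ne n9] at h3
    exact absurd h3 (by decide)
  have hc : c = i ∨ c = j := by
    by_contra h2
    rw [not_or] at h2
    have h3 := hy0 c
    rw [hy, Pi.add_apply, key c h2.1 h2.2] at h3
    simp only [Pi.add_apply, Pi.single_eq_same, Pi.single_eq_of_ne (Ne.symm n2), Pi.single_eq_of_ne (Ne.symm n6),
      Pi.single_eq_of_ne n10, Pi.single_eq_of_ne n11, Pi.single_eq_of_ne n12] at h3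
    exact absurd h3 (by decide)
  rcases ha with ha | ha <;> rcases hb with hb | hb <;> rcases hc with hc | hc
  · exact n1 (ha.trans hb.symm)
  · exact n1 (ha.trans hb.symm)
  · exact n2 (ha.trans hc.symm)
  · exact n6 (hb.trans hc.symm)
  · exact n6 (hb.trans hc.symm)
  · exact n2 (ha.trans hc.symm)
  · exact n1 (ha.trans hb.symm)
  · exact n1 (ha.trans hb.symm)

/-- **(3)** no element of `Δ` has three ones and three zeros. -/
theorem no_three {y : Fin n → ZMod 2} {σ : E} (hσ : IsSig f e σ) (hd : e y + σ ∈ Δ) {a b c p q r : Fin n}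
    (n1 : a ≠ b) (n2 : a ≠ c) (n3 : b ≠ c) (n4 : p ≠ q) (n5 : p ≠ r) (n6 : q ≠ r) (ha : y a = 1) (hb : y b = 1)
    (hc : y c = 1) (hp : y p = 0) (hq : y q = 0) (hr : y r = 0) : False := by
  have d : ∀ {s t : Fin n}, y s = 1 → y t = 0 → s ≠ t := by
    rintro s t h1 h2 rfl
    rw [h1] at h2
    exact absurd h2 (by decide)
  have ap := d ha hp
  have aq := d ha hq
  have ar := d ha hr
  have bp := d hb hp
  have bq := d hb hq
  have br := d hb hr
  have cp := d hc hp
  have cq := d hc hq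
  have cr := d hc hr
  set d1 : Fin n → ZMod 2 := Pi.single a 1 + Pi.single p 1 with hd1
  set d2 : Fin n → ZMod 2 := Pi.single b 1 + Pi.single q 1 with hd2
  set d3 : Fin n → ZMod 2 := Pi.single c 1 + Pi.single r 1 with hd3
  have e1 := h.move hσ hd ap (by rw [ha, hp]; decide)
  have e2 := h.move hσ e1 bq (by
    simp only [Pi.add_apply, Pi.single_eq_of_ne n1.symm, Pi.single_eq_of_ne bp, Pi.single_eq_of_ne aq.symm,
      Pi.single_eq_of_ne n4.symm, hb, hq]
    decide)
  have e3 := h.move hσ e2 cr (by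
    simp only [Pi.add_apply, Pi.single_eq_of_ne n2.symm, Pi.single_eq_of_ne cp, Pi.single_eq_of_ne n3.symm,
      Pi.single_eq_of_ne cq, Pi.single_eq_of_ne ar.symm, Pi.single_eq_of_ne n5.symm, Pi.single_eq_of_ne br.symm,
      Pi.single_eq_of_ne n6.symm, hc, hr]
    decide)
  have e4 : e (y + d1 + d2 + d3) + σ = e y + σ + (e d1 + e d2 + e d3) := by
    rw [h.e_add, h.e_add, h.e_add]
    abel
  have f1 : f (e y + σ) (e (y + d1 + d2 + d3) + σ) = 1 := by
    rw [e4, h.add _ hd, h.self _ hd, h.add _ hd, h.add _ hd]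
    have g1 : f (e y + σ) (e d1) = y a + y p := h.f_left hσ hd ap
    have g2 : f (e y + σ) (e d2) = y b + y q := h.f_left hσ hd bq
    have g3 : f (e y + σ) (e d3) = y c + y r := h.f_left hσ hd cr
    rw [g1, g2, g3, ha, hb, hc, hp, hq, hr]
    decide
  have e5 := h.cl _ hd _ e3 f1
  have e6 : e y + σ + (e (y + d1 + d2 + d3) + σ) = e (d1 + d2 + d3) := by
    rw [e4, h.e_add (d1 + d2) d3, h.e_add d1 d2]
    have h1 := h.two (e y + σ)
    calc e y + σ + (e y + σ + (e d1 + e d2 + e d3)) = (e y + σ + (e y + σ)) + (e d1 + e d2 + e d3) := by abel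
      _ = _ := by rw [h1, zero_add]
  rw [e6] at e5
  refine h.six e5 ?_
  simp only [List.nodup_cons, List.mem_cons, List.not_mem_nil, or_false, not_or, List.nodup_nil, and_true,
    not_false_eq_true]
  exact ⟨⟨n1, n2, ap, aq, ar⟩, ⟨n3, bp, bq, br⟩, ⟨cp, cq, cr⟩, ⟨n4, n5⟩, n6⟩

/-- **(3)** -/
theorem cases_of {y : Fin n → ZMod 2} {σ : E} (hσ : IsSig f e σ) (hd : e y + σ ∈ Δ) :
    e y = 0 ∨ (∃ i, e y = ez e i) ∨ ∃ i j, i ≠ j ∧ e y = er e i j := by
  rcases vec_cases y with h1 | ⟨i, h1⟩ | ⟨i, j, hij, h1⟩ | ⟨a, b, c, p, q, r, n1, n2, n3, n4, n5, n6, h1⟩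
  · exact Or.inl ((h.e_zero y).mpr h1)
  · refine Or.inr (Or.inl ⟨i, ?_⟩)
    rcases h1 with h1 | h1 <;> rw [h1]
    · rfl
    · rw [h.e_add, h.e_one, add_zero]
      rfl
  · refine Or.inr (Or.inr ⟨i, j, hij, ?_⟩)
    rcases h1 with h1 | h1 <;> rw [h1]
    · rfl
    · rw [h.e_add, h.e_one, add_zero]
      rfl
  · exact (h.no_three hσ hd n1 n2 n3 n4 n5 n6 h1.1 h1.2.1 h1.2.2.1 h1.2.2.2.1 h1.2.2.2.2.1 h1.2.2.2.2.2).elim

end Sys

end Cfsg.Agent.Omega.F4Leaf.EndC
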